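import Mathlib

/-!
# Conjugators for the involutions outside the extraspecial group
-/

set_option autoImplicit false

namespace CfsgLib.Characterizations.HallJanko.Uniq.Data

/-- Words conjugating `t` to the involutions outside the extraspecial group. -/
def outerW : List (List ℕ) := [[],
  [0],
  [1],
  [2],
  [0, 1],
  [0, 2],
  [0, 3],
  [1, 0],
  [2, 0],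
  [0, 1, 0],
  [0, 1, 3],
  [0, 2, 3],
  [0, 3, 0],
  [1, 0, 1],
  [1, 0, 2],
  [1, 0, 3],
  [2, 0, 1],
  [2, 0, 2],
  [2, 0, 3],
  [0, 1, 0, 1],
  [0, 1, 0, 2],
  [0, 1, 0, 3],
  [0, 1, 3, 0],
  [0, 2, 3, 0],
  [0, 3, 0, 1],
  [0, 3, 0, 2],
  [1, 0, 1, 3],
  [1, 0, 2, 3],
  [1, 0, 3, 0],
  [2, 0, 1, 3],
  [2, 0, 2, 3],
  [2, 0, 3, 0],
  [0, 1, 0, 1, 3],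
  [0, 1, 0, 2, 3],
  [0, 1, 0, 3, 0],
  [0, 1, 3, 0, 1],
  [0, 1, 3, 0, 2],
  [0, 1, 3, 0, 3],
  [0, 2, 3, 0, 1],
  [0, 2, 3, 0, 2],
  [0, 2, 3, 0, 3],
  [0, 3, 0, 1, 0],
  [0, 3, 0, 2, 0],
  [1, 0, 1, 3, 0],
  [1, 0, 2, 3, 0],
  [1, 0, 3, 0, 1],
  [1, 0, 3, 0, 2],
  [2, 0, 1, 3, 0],
  [2, 0, 2, 3, 0],
  [2, 0, 3, 0, 1],
  [2, 0, 3, 0, 2],
  [0, 1, 0, 1, 3, 0],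
  [0, 1, 0, 2, 3, 0],
  [0, 1, 0, 3, 0, 1],
  [0, 1, 0, 3, 0, 2],
  [0, 1, 0, 3, 0, 3],
  [0, 1, 3, 0, 1, 0],
  [0, 1, 3, 0, 1, 3],
  [0, 1, 3, 0, 2, 0],
  [0, 1, 3, 0, 2, 3],
  [0, 2, 3, 0, 1, 0],
  [0, 2, 3, 0, 1, 3],
  [0, 2, 3, 0, 2, 0],
  [0, 2, 3, 0, 2, 3],
  [0, 3, 0, 1, 0, 1],
  [0, 3, 0, 1, 0, 2],
  [0, 3, 0, 1, 0, 3],
  [0, 3, 0, 2, 0, 2],
  [0, 3, 0, 2, 0, 3],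
  [1, 0, 1, 3, 0, 1],
  [1, 0, 1, 3, 0, 2],
  [1, 0, 1, 3, 0, 3],
  [1, 0, 2, 3, 0, 1],
  [1, 0, 2, 3, 0, 3],
  [1, 0, 3, 0, 1, 0],
  [2, 0, 1, 3, 0, 1],
  [2, 0, 1, 3, 0, 3],
  [2, 0, 2, 3, 0, 1],
  [2, 0, 2, 3, 0, 2],
  [2, 0, 2, 3, 0, 3],
  [2, 0, 3, 0, 1, 0],
  [2, 0, 3, 0, 2, 0],
  [0, 1, 0, 1, 3, 0, 3],
  [0, 1, 0, 2, 3, 0, 1],
  [0, 1, 0, 2, 3, 0, 3],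
  [0, 1, 0, 3, 0, 1, 0],
  [0, 1, 0, 3, 0, 1, 3],
  [0, 1, 0, 3, 0, 2, 3],
  [0, 1, 3, 0, 1, 0, 1],
  [0, 1, 3, 0, 1, 0, 3],
  [0, 1, 3, 0, 1, 3, 0],
  [0, 1, 3, 0, 2, 0, 3],
  [0, 1, 3, 0, 2, 3, 0],
  [0, 2, 3, 0, 1, 0, 1],
  [0, 2, 3, 0, 1, 0, 2],
  [0, 2, 3, 0, 1, 3, 0],
  [0, 2, 3, 0, 2, 0, 3],
  [0, 2, 3, 0, 2, 3, 0],
  [0, 3, 0, 1, 0, 2, 3],
  [0, 3, 0, 1, 0, 3, 0],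
  [0, 3, 0, 2, 0, 2, 3],
  [0, 3, 0, 2, 0, 3, 0],
  [1, 0, 1, 3, 0, 1, 0],
  [1, 0, 1, 3, 0, 2, 3],
  [1, 0, 2, 3, 0, 1, 3],
  [1, 0, 3, 0, 1, 0, 3],
  [2, 0, 1, 3, 0, 1, 3],
  [2, 0, 2, 3, 0, 1, 3],
  [2, 0, 3, 0, 1, 0, 3],
  [2, 0, 3, 0, 2, 0, 3],
  [0, 1, 0, 2, 3, 0, 1, 3],
  [0, 1, 0, 3, 0, 1, 0, 3],
  [0, 1, 0, 3, 0, 2, 3, 0],
  [0, 1, 3, 0, 1, 0, 1, 3],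
  [0, 2, 3, 0, 1, 3, 0, 1],
  [0, 2, 3, 0, 1, 3, 0, 2],
  [0, 2, 3, 0, 2, 0, 3, 0],
  [0, 3, 0, 1, 0, 3, 0, 1],
  [0, 3, 0, 2, 0, 3, 0, 1],
  [0, 3, 0, 2, 0, 3, 0, 2]]

end CfsgLib.Characterizations.HallJanko.Uniq.Data
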