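import Cfsg.Agent.Lib.Characterizations.HallJanko.Uniq.Main
import Cfsg.Agent.Lib.Characterizations.HallJanko.Uniq.OuterData
import Cfsg.Agent.Lib.Involution.ZStar.Main

/-!
# The hypotheses of the uniqueness statements

In a simple group with two classes of involutions the central involution is conjugate into `Q ∖ ⟨z⟩`.
-/

set_option autoImplicit false
set_option maxRecDepth 100000
set_option linter.style.haveILetI false
set_option linter.unusedSectionVars false

namespace CfsgLib.Characterizations.HallJanko.Uniq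

open CfsgLib.Sporadic.CosetCert (appProd appProd_append)
open CfsgLib.SmallGroups.PermChain (comp)
open CfsgLib.Characterizations.HallJankoCount
open CfsgLib.Involution.Dihedral
open Data

/-- An involution outside the extraspecial group. -/
def condO (m : ℕ) : Bool := comp 32 m m == id32 && !qV.contains m

theorem search_outer : (elems.all fun e => !condO e.2 ||
    (outerW.map fun g => m32 (wconj g tW)).contains e.2) = true := by decide +kernel

theorem search_fix : (elems.all fun e => !condO e.2 ||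
    qV.any fun q => comp 32 q q == id32 && !(q == id32) && !(q == zV) && comp 32 q e.2 == comp 32 e.2 q) = true := by
  decide +kernel

theorem outerW_low : ∀ g ∈ outerW, Low g := by decide +kernel

variable {G : Type*} [Group G] [Finite G]

/-- In an isolated situation the simple group would be abelian. -/
theorem exists_commuting_conj [IsSimpleGroup G] {z x y : G} (hz : orderOf z = 2) (hx : orderOf x = 2)
    (hy : orderOf y = 2) (hxy : ¬ IsConj x y) : ∃ g : G, Commute z (g * z * g⁻¹) ∧ g * z * g⁻¹ ≠ z := by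
  classical
  by_contra hne
  push Not at hne
  have hiso : Cfsg.IsIsolatedInvolution z := ⟨hz, hne⟩
  haveI := CfsgLib.Involution.ZStar.oddCore_normal (G := G)
  have hcore : Cfsg.oddCore G = ⊥ := by
    refine (Subgroup.Normal.eq_bot_or_eq_top (H := Cfsg.oddCore G) inferInstance).resolve_right fun h => ?_
    have hodd := CfsgLib.Involution.ZStar.odd_card_oddCore (G := G)
    rw [h, Subgroup.card_top] at hodd
    exact (Nat.not_even_iff_odd.2 hodd) (even_iff_two_dvd.2 (hz ▸ orderOf_dvd_natCard z))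
  have hzc : z ∈ Subgroup.center G := Subgroup.mem_center_iff.2 fun g => by
    have h := CfsgLib.Involution.ZStar.comm_mem_oddCore hiso g
    rw [hcore, Subgroup.mem_bot, mul_inv_eq_one, mul_inv_eq_iff_eq_mul] at h
    exact h.symm
  have htop : Subgroup.center G = ⊤ :=
    (Subgroup.Normal.eq_bot_or_eq_top (H := Subgroup.center G) inferInstance).resolve_left fun h => by
      rw [h, Subgroup.mem_bot] at hzc
      exact ne_one hz hzc
  letI : CommGroup G := { (inferInstance : Group G) with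
    mul_comm := fun a b => Subgroup.mem_center_iff.1 (htop ▸ Subgroup.mem_top b : b ∈ Subgroup.center G) a }
  have hp : Nat.Prime (Nat.card G) := IsSimpleGroup.prime_card
  have h2 : Nat.card G = 2 := ((Nat.prime_dvd_prime_iff_eq Nat.prime_two hp).1 (hz ▸ orderOf_dvd_natCard z)).symm
  apply hxy
  have hxy' : x = y := by
    by_contra hd
    have h3 : ({1, x, y} : Finset G).card = 3 := by
      rw [Finset.card_insert_of_notMem, Finset.card_pair hd]
      simp only [Finset.mem_insert, Finset.mem_singleton, not_or]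
      exact ⟨(ne_one hx).symm, (ne_one hy).symm⟩
    haveI := Fintype.ofFinite G
    have := Finset.card_le_univ ({1, x, y} : Finset G)
    rw [h3, ← Nat.card_eq_fintype_card, h2] at this
    omega
  exact hxy' ▸ IsConj.refl x

/-- `z` is conjugate to another element of `Q`. -/
theorem exists_conj_mem {z : G} (hz : orderOf z = 2) {Q K : Subgroup G} (h : Cent z Q K)
    (htwo : ∃ x y : G, orderOf x = 2 ∧ orderOf y = 2 ∧ ¬ IsConj x y)
    {g : G} (hc : Commute z (g * z * g⁻¹)) (hne : g * z * g⁻¹ ≠ z)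
    (hinto : ∀ x : G, orderOf x = 2 → ∃ g : G, g * x * g⁻¹ ∈ Subgroup.centralizer ({z} : Set G)) :
    ∃ a : G, a * z * a⁻¹ ∈ Q ∧ a * z * a⁻¹ ≠ z := by
  classical
  by_contra hcon
  push Not at hcon
  obtain ⟨v, hF⟩ := exists_frame' h
  have hzz : z * z = 1 := mul_self hz
  have hzQ := h.setting.extra.z_mem
  -- involutions of the centraliser outside `Q`
  have houter : ∀ y : G, y * z = z * y → y * y = 1 → y ∉ Q → IsConj (appProd v tW) y ∧
      ∃ q ∈ Q, q * q = 1 ∧ q ≠ 1 ∧ q ≠ z ∧ q * y = y * q := by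
    intro y hyz hyy hyQ
    obtain ⟨e, he, e'⟩ := hF.cover y hyz
    have ev := (elems_spec he).1
    have hlow := word_facts.2.1 e he
    have hcond : condO e.2 = true := by
      simp only [condO, Bool.and_eq_true, beq_iff_eq, Bool.not_eq_true']
      rw [← ev]
      refine ⟨?_, ?_⟩
      · rw [← m32_append]
        exact (hF.eqv _ [] (low_append hlow hlow) (by decide)).1 (by rw [appProd_append, e', hyy]; rfl)
      · rw [Bool.eq_false_iff]
        intro hm
        rw [List.contains_iff_mem, ← values_ok.1, List.mem_map] at hm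
        obtain ⟨L, hL, e0⟩ := hm
        have := hF.qmem L hL
        rw [(hF.eqv L e.1 (word_facts.2.2.2.2.2.2.2.2.2.2.2 L hL) hlow).2 e0, e'] at this
        exact hyQ this
    refine ⟨?_, ?_⟩
    · have hs := List.all_eq_true.1 search_outer e he
      rw [hcond, Bool.not_true, Bool.false_or, List.contains_iff_mem, ← ev, List.mem_map] at hs
      obtain ⟨w, hw, e0⟩ := hs
      refine isConj_iff.2 ⟨appProd v w, ?_⟩
      rw [← ev_wconj hF.inv, (hF.eqv _ _ (low_wconj (outerW_low w hw) word_facts.2.2.2.2.2.2.1) hlow).2 e0, e']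
    · have hs := List.all_eq_true.1 search_fix e he
      rw [hcond, Bool.not_true, Bool.false_or, List.any_eq_true] at hs
      obtain ⟨q, hq, hq'⟩ := hs
      rw [← values_ok.1, List.mem_map] at hq
      obtain ⟨L, hL, rfl⟩ := hq
      simp only [Bool.and_eq_true, beq_iff_eq, Bool.not_eq_true', beq_eq_false_iff_ne] at hq'
      obtain ⟨⟨⟨q1, q2⟩, q3⟩, q4⟩ := hq'
      have lL := word_facts.2.2.2.2.2.2.2.2.2.2.2 L hL
      refine ⟨appProd v L, hF.qmem L hL, ?_, fun e0 => q2 ?_, fun e0 => q3 ?_, ?_⟩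
      · rw [← appProd_append]
        exact (hF.eqv (L ++ L) [] (low_append lL lL) (by decide)).2 ((m32_append L L).trans q1)
      · exact (hF.eqv L [] lL (by decide)).1 e0
      · rw [← const_ok.2.1]
        exact (hF.eqv L zW lL (by decide)).1 (e0.trans hF.hz.symm)
      · rw [← ev, ← m32_append, ← m32_append] at q4
        have := (hF.eqv _ _ (low_append hlow lL) (low_append lL hlow)).2 q4
        rwa [appProd_append, appProd_append, e'] at this
  set w := g * z * g⁻¹ with hw
  have hwz : IsConj z w := isConj_iff.2 ⟨g, rfl⟩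
  have hwQ : w ∉ Q := fun hQ => hne (hcon g hQ)
  have hww : w * w = 1 := by rw [hw, conj_mul, hzz, mul_one, mul_inv_cancel]
  obtain ⟨hwτ, q, hqQ, hqq, hq1, hqz, hqw⟩ := houter w hc.symm.eq hww hwQ
  have hclass : ∀ y : G, y * z = z * y → y * y = 1 → y ∉ Q → IsConj z y := fun y h1 h2 h3 =>
    (hwz.trans hwτ.symm).trans (houter y h1 h2 h3).1
  -- an involution of `Q` commuting with `w` comes from `Q` under `g`
  have hback : ∀ p : G, p ∈ Q → p * p = 1 → p ≠ 1 → p ≠ z → p * w = w * p → g⁻¹ * p * g ∈ Q := by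
    intro p hpQ hpp hp1 hpz hpw
    by_contra hout
    have hnz : ¬ IsConj z p := fun hzp => by
      obtain ⟨a, ha⟩ := isConj_iff.1 hzp
      exact hpz (ha ▸ hcon a (ha ▸ hpQ))
    refine hnz ?_
    have hzeq : (g⁻¹ * p * g) * z = z * (g⁻¹ * p * g) := by
      calc g⁻¹ * p * g * z = g⁻¹ * (p * w) * g := by rw [hw]; group
        _ = z * (g⁻¹ * p * g) := by rw [hpw, hw]; group
    have hsq : g⁻¹ * p * g * (g⁻¹ * p * g) = 1 := by
      calc g⁻¹ * p * g * (g⁻¹ * p * g) = g⁻¹ * (p * p) * g := by group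
        _ = 1 := by rw [hpp]; group
    exact (hclass _ hzeq hsq hout).trans (isConj_iff.2 ⟨g, by group⟩)
  have hzq : z * q = q * z := h.setting.extra.z_comm hqQ
  have h1 := hback q hqQ hqq hq1 hqz hqw
  have h2 := hback (q * z) (mul_mem hqQ hzQ)
    (by rw [mul_assoc, ← mul_assoc z, hzq, mul_assoc q z, hzz, mul_one, hqq])
    (fun e => hqz (by rw [mul_eq_one_iff_eq_inv, h.setting.extra.inv_z] at e; exact e))
    (fun e => hq1 (mul_eq_right.1 e))
    (by rw [mul_assoc, hc.eq, ← mul_assoc, hqw, mul_assoc])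
  have h3 : g⁻¹ * z * g ∈ Q := by
    have := mul_mem (inv_mem h1) h2
    rwa [show (g⁻¹ * q * g)⁻¹ * (g⁻¹ * (q * z) * g) = g⁻¹ * z * g by group] at this
  have h4 := hcon g⁻¹ (by rwa [inv_inv])
  rw [inv_inv] at h4
  apply hne
  calc g * z * g⁻¹ = g * (g⁻¹ * z * g) * g⁻¹ := by rw [h4]
    _ = z := by group

/-- A normal subgroup with simple quotient containing its own centraliser is the generalised Fitting subgroup. -/
theorem generalizedFitting_eq {C : Type*} [Group C] [Finite C] (N : Subgroup C) [N.Normal] (hN : IsPGroup 2 N)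
    (hc : Subgroup.centralizer (N : Set C) ≤ N) (e : C ⧸ N ≃* alternatingGroup (Fin 5)) :
    Cfsg.generalizedFittingSubgroup C = N := by
  have hNF : N ≤ Cfsg.fittingSubgroup C := by
    haveI : Fact (Nat.Prime 2) := ⟨Nat.prime_two⟩
    exact CfsgLib.Solvable.Cores.le_fittingSubgroup hN.isNilpotent
  haveI : IsSimpleGroup (C ⧸ N) := e.isSimpleGroup_congr.2 inferInstance
  have hF : Cfsg.fittingSubgroup C ≤ N := by
    let f := (QuotientGroup.mk' N).comp (Cfsg.fittingSubgroup C).subtype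
    have hnil : Group.IsNilpotent ↥f.range := Group.nilpotent_of_surjective f.rangeRestrict f.rangeRestrict_surjective
    haveI hn : f.range.Normal := by
      rw [MonoidHom.range_comp, Subgroup.range_subtype]
      exact (inferInstance : (Cfsg.fittingSubgroup C).Normal).map _ (QuotientGroup.mk'_surjective N)
    rcases Subgroup.Normal.eq_bot_or_eq_top hn with h | h
    · intro x hx
      have : f ⟨x, hx⟩ ∈ f.range := ⟨_, rfl⟩
      rw [h, Subgroup.mem_bot] at this
      exact (QuotientGroup.eq_one_iff x).1 this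
    · exfalso
      rw [h] at hnil
      haveI : Group.IsNilpotent (C ⧸ N) := (Group.isNilpotent_congr Subgroup.topEquiv).1 hnil
      haveI : Group.IsNilpotent (alternatingGroup (Fin 5)) := (Group.isNilpotent_congr e).1 inferInstance
      have hcomm := (IsSimpleGroup.comm_iff_isSolvable (G := alternatingGroup (Fin 5))).2 inferInstance
      have hne : ∃ σ τ : alternatingGroup (Fin 5), σ * τ ≠ τ * σ :=
        ⟨⟨Equiv.swap 0 1 * Equiv.swap 2 3, Equiv.Perm.mem_alternatingGroup.2 (by decide)⟩,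
          ⟨Equiv.swap 0 1 * Equiv.swap 1 2, Equiv.Perm.mem_alternatingGroup.2 (by decide)⟩, fun hh => absurd (congrArg Subtype.val hh) (by decide +kernel)⟩
      obtain ⟨σ, τ, hστ⟩ := hne
      exact hστ (hcomm σ τ)
  have hL : Cfsg.layer C ≤ N := by
    refine le_trans ?_ hc
    exact le_trans CfsgLib.Components.layer_le_centralizer_fitting (Subgroup.centralizer_le hNF)
  refine le_antisymm (sup_le hL hF) (hNF.trans le_sup_right)

/-- The hypotheses on the centraliser in the ambient group. -/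
theorem setup (z : G) (hz : orderOf z = 2) (Q : Subgroup (Subgroup.centralizer ({z} : Set G))) [Q.Normal]
    (hQ : Cfsg.IsExtraspecial 2 Q) (hcard : Nat.card Q = 32)
    (h2c : Subgroup.centralizer (Q : Set (Subgroup.centralizer ({z} : Set G))) ≤ Q)
    (e : (Subgroup.centralizer ({z} : Set G)) ⧸ Q ≃* alternatingGroup (Fin 5))
    (houter : ∃ (v : G) (hv : v ∈ Subgroup.centralizer ({z} : Set G)),
      (⟨v, hv⟩ : Subgroup.centralizer ({z} : Set G)) ∉ Q ∧ v * v = 1) :
    ∃ Q' : Subgroup G, (∀ c : Subgroup.centralizer ({z} : Set G), (c : G) ∈ Q' → c ∈ Q) ∧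
      Base Q' (Subgroup.centralizer ({z} : Set G)) z ∧
      ∀ x : G, orderOf x = 2 → ∃ g : G, g * x * g⁻¹ ∈ Subgroup.centralizer ({z} : Set G) := by
  classical
  haveI : Fact (Nat.Prime 2) := ⟨Nat.prime_two⟩
  generalize hC : Subgroup.centralizer ({z} : Set G) = C at *
  have hzC : z ∈ C := by rw [← hC]; exact Subgroup.mem_centralizer_singleton_iff.2 rfl
  let Q' : Subgroup G := Q.map C.subtype
  have eQ : ↥Q ≃* ↥Q' := Subgroup.equivMapOfInjective _ _ C.subtype_injective
  have hback : ∀ c : C, (c : G) ∈ Q' → c ∈ Q := fun c ⟨c', hc', he⟩ => (Subtype.ext he : c' = c) ▸ hc'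
  have hcentz : ∀ c ∈ C, c * z = z * c := fun c hc =>
    Subgroup.mem_centralizer_singleton_iff.1 (by rw [hC]; exact hc)
  have hzQ' : z ∈ Q' := ⟨⟨z, hzC⟩, h2c fun q _ => Subtype.ext (hcentz q q.2), rfl⟩
  have hextra : CfsgLib.ThreeTransp.Extraspecial.Extra Q' z := by
    obtain ⟨z', hz'⟩ := CfsgLib.ThreeTransp.Extraspecial.exists_extra (isExtraspecial_congr eQ hQ)
    rcases hz'.mem_center_cases hzQ' (fun q hq => by
      obtain ⟨c, -, rfl⟩ := hq
      exact (hcentz c c.2).symm) with h | h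
    · exact absurd h (ne_one hz)
    · exact h ▸ hz'
  have hcentle : ∀ c ∈ C, (∀ q ∈ Q', c * q * c⁻¹ = q) → c ∈ Q' := fun c hc hfix =>
    ⟨⟨c, hc⟩, h2c fun q hq => Subtype.ext (mul_inv_eq_iff_eq_mul.1 (hfix q ⟨q, hq, rfl⟩)).symm, rfl⟩
  obtain ⟨v, hv, hvQ, hvv⟩ := houter
  refine ⟨Q', hback, ⟨hextra, by rw [← Nat.card_congr eQ.toEquiv, hcard], Subgroup.map_subtype_le _, ?_, hcentz,
    hcentle, ⟨e.toMonoidHom.comp (QuotientGroup.mk' Q), e.surjective.comp (QuotientGroup.mk'_surjective Q), ?_⟩,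
    ⟨v, hv, fun hm => hvQ (hback ⟨v, hv⟩ hm), hvv⟩⟩, ?_⟩
  · rintro c hc _ ⟨q, hq, rfl⟩
    exact ⟨⟨c, hc⟩ * q * ⟨c, hc⟩⁻¹, Subgroup.Normal.conj_mem inferInstance q hq _, rfl⟩
  · ext c
    rw [MonoidHom.mem_ker]
    refine ((map_eq_one_iff _ e.injective).trans (QuotientGroup.eq_one_iff c)).trans ?_
    exact ⟨fun hc => ⟨c, hc, rfl⟩, hback c⟩
  · obtain ⟨S, hS⟩ := (hextra.isPGroup).exists_le_sylow
    have hSC : (S : Subgroup G) ≤ C := by
      haveI : Nontrivial (S : Subgroup G) := ⟨⟨⟨z, hS hzQ'⟩, 1, fun e => ne_one hz (congrArg Subtype.val e)⟩⟩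
      haveI := S.2.center_nontrivial
      obtain ⟨w, hw⟩ := exists_ne (1 : Subgroup.center (S : Subgroup G))
      have hwc : ∀ s ∈ (S : Subgroup G), s * ((w : (S : Subgroup G)) : G) = ((w : (S : Subgroup G)) : G) * s :=
        fun s hs => congrArg Subtype.val (Subgroup.mem_center_iff.1 w.2 ⟨s, hs⟩)
      set w' := ((w : (S : Subgroup G)) : G)
      have hwC : w' ∈ C := by rw [← hC]; exact Subgroup.mem_centralizer_singleton_iff.2 (hwc z (hS hzQ')).symm
      have hwQ : (⟨w', hwC⟩ : ↥C) ∈ Q := h2c fun q hq => Subtype.ext (hwc q (hS ⟨q, hq, rfl⟩))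
      rcases hextra.mem_center_cases (x := w') ⟨_, hwQ, rfl⟩ (fun q hq => (hwc q (hS hq)).symm) with h | h
      · exact absurd (Subtype.ext (Subtype.ext h)) hw
      · intro s hs
        rw [← hC]; exact Subgroup.mem_centralizer_singleton_iff.2 (h ▸ hwc s hs)
    intro x hx
    obtain ⟨T, hT⟩ := (IsPGroup.of_card (G := Subgroup.zpowers x) (p := 2) (n := 1)
      (by rw [Nat.card_zpowers, hx, pow_one])).exists_le_sylow
    obtain ⟨g, hg⟩ := MulAction.exists_smul_eq G T S
    exact ⟨g, hSC (hg ▸ ⟨x, hT (Subgroup.mem_zpowers x), rfl⟩)⟩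

/-- The simple group case. -/
theorem nonempty_iso_simple [IsSimpleGroup G] (z : G) (hz : orderOf z = 2)
    (Q : Subgroup (Subgroup.centralizer ({z} : Set G))) [Q.Normal]
    (hQ : Cfsg.IsExtraspecial 2 Q) (hcard : Nat.card Q = 32)
    (h2c : Subgroup.centralizer (Q : Set (Subgroup.centralizer ({z} : Set G))) ≤ Q)
    (e : (Subgroup.centralizer ({z} : Set G)) ⧸ Q ≃* alternatingGroup (Fin 5))
    (htwo : ∃ x y : G, orderOf x = 2 ∧ orderOf y = 2 ∧ ¬ IsConj x y) : Cfsg.Spor.IsoJ2 G := by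
  classical
  haveI : Fact (Nat.Prime 2) := ⟨Nat.prime_two⟩
  have hF := generalizedFitting_eq Q (IsPGroup.of_card (n := 5) (by rw [hcard]; norm_num)) h2c e
  obtain ⟨eO⟩ := omega_equiv
  have hnwc : ∃ g : G, (∃ hq : g * z * g⁻¹ ∈ Subgroup.centralizer ({z} : Set G),
      (⟨g * z * g⁻¹, hq⟩ : Subgroup.centralizer ({z} : Set G)) ∈ Q) ∧ g * z * g⁻¹ ≠ z := by
    obtain ⟨x, y, hx, hy, hxy⟩ := htwo
    obtain ⟨g, hg, hne⟩ := exists_commuting_conj hz hx hy hxy
    have hgC : g * z * g⁻¹ ∈ Subgroup.centralizer ({z} : Set G) := Subgroup.mem_centralizer_singleton_iff.2 hg.symm.eq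
    by_cases hgQ : (⟨g * z * g⁻¹, hgC⟩ : Subgroup.centralizer ({z} : Set G)) ∈ Q
    · exact ⟨g, ⟨hgC, hgQ⟩, hne⟩
    -- build the complement
    obtain ⟨Q', hQ', hbase, hsy⟩ := setup z hz Q hQ hcard h2c e ⟨_, hgC, hgQ, by
      rw [conj_mul, mul_self hz, mul_one, mul_inv_cancel]⟩
    obtain ⟨K, hset, -, hsup⟩ := exists_setting hbase
    have hcentle : ∀ c ∈ Subgroup.centralizer ({z} : Set G), (∀ q ∈ Q', c * q * c⁻¹ = q) → c ∈ Q' := hbase.cent_le
    obtain ⟨a, ha, hane⟩ := exists_conj_mem hz (K := K) ⟨hset, hsup, hcentle⟩ ⟨x, y, hx, hy, hxy⟩ hg hne hsy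
    exact ⟨a, ⟨hbase.le ha, hQ' ⟨_, _⟩ ha⟩, hane⟩
  obtain ⟨Q', K, h⟩ := exists_hj z hz Q hF hQ (by rw [hcard]; norm_num) (e.trans eO.symm) hnwc htwo
  obtain ⟨t, P, B, hd⟩ := h.exists_data
  exact nonempty_iso hd

end CfsgLib.Characterizations.HallJanko.Uniq
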