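import Cfsg.Agent.Lib.Characterizations.HallJanko.Uniq.Data
import Cfsg.Agent.Lib.Sporadic.CosetCertCox
import Cfsg.Agent.Lib.SmallGroups.PermChain

/-!
# Words in the seven letters and the model of `2^{1+4}·A₅` on thirty-two points
-/

set_option autoImplicit false
set_option maxRecDepth 100000

namespace CfsgLib.Characterizations.HallJanko.Uniq

open CfsgLib.Sporadic.CosetCert (appProd appProd_append)
open CfsgLib.SmallGroups.PermChain (pack comp Rep toPerm rep_fst rep_comp)
open Data

/-- The inverse letter. -/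
def iv (x : ℕ) : ℕ := invLetter.getD x x

/-- The inverse word. -/
def winv (L : List ℕ) : List ℕ := L.reverse.map iv

/-- The word of a conjugate `g x g⁻¹`. -/
def wconj (g x : List ℕ) : List ℕ := winv g ++ x ++ g

/-- The word of a commutator. -/
def wcomm (x y : List ℕ) : List ℕ := x ++ y ++ winv x ++ winv y

/-- The five conjugates of `u`. -/
def uW (i : ℕ) : List ℕ := wconj (kTo.getD i []) [3]

/-- The central involution. -/
def zW : List ℕ := uW 0 ++ uW 1 ++ uW 0 ++ uW 1

/-- The involution of the fifth point. -/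
def sW : List ℕ := uW 4

/-- An element of order four of the centraliser of `u` in the extraspecial group. -/
def q1W : List ℕ := uW 2 ++ uW 1

/-- Relations of the complement. -/
def relK : List (List ℕ) := [[0, 0], [1, 1, 1], [0, 1, 0, 1, 0, 1, 0, 1, 0, 1]]

/-- Relations of the centraliser of the central involution. -/
def relC : List (List ℕ) :=
  relK ++ [[3, 3], wcomm [3] fW, wcomm [3] tW, wcomm zW [0], wcomm zW [1], wcomm zW [3], zW ++ zW,
    uW 4 ++ uW 3 ++ uW 2 ++ uW 1 ++ uW 0, uW 0 ++ uW 2 ++ uW 0 ++ uW 2 ++ winv zW]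

/-- Relations of the element of order three of `B`. -/
def relX (y : List ℕ) : List (List ℕ) :=
  [[4, 4, 4], wcomm [4] tW, wcomm [4] fW, wconj [4] zW ++ [3], wconj [4] [3] ++ winv zW ++ [3],
    wconj [4] q1W ++ winv xW, wconj sW [4] ++ winv ([5] ++ y)]

/-- The six words defining `i` in `B`, with exponents. -/
def relB : List (List ℕ × ℕ) :=
  [([4, 6], 2), ([5, 6], 2), (zW ++ [6], 5), ([3, 6], 5), (zW ++ [4, 6], 3), ([3, 4, 6], 5)]

/-- Relations of the involution of `B`. -/
def relI : List (List ℕ) :=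
  [[6, 6], wcomm [6] tW, wcomm [6] fW] ++ relB.map (fun p => (List.replicate p.2 p.1).flatten) ++ [[0, 6, 0, 6]]

/-- All relations. -/
def relJ (y : List ℕ) : List (List ℕ) := relC ++ relX y ++ relI

section Semantics

variable {H : Type*} [Group H] {v : ℕ → H}

/-- The letters respect inverses. -/
def Inv (v : ℕ → H) : Prop := ∀ x, v (iv x) = (v x)⁻¹

theorem ev_single (v : ℕ → H) (x : ℕ) : appProd v [x] = v x := one_mul _

theorem ev_winv (hv : Inv v) (L : List ℕ) : appProd v (winv L) = (appProd v L)⁻¹ := by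
  induction L with
  | nil => simp [winv, appProd]
  | cons x L ih =>
    rw [show winv (x :: L) = winv L ++ [iv x] by simp [winv], appProd_append, ev_single, hv, ih]
    simp [appProd, mul_inv_rev]

theorem ev_wconj (hv : Inv v) (g x : List ℕ) :
    appProd v (wconj g x) = appProd v g * appProd v x * (appProd v g)⁻¹ := by
  simp [wconj, appProd_append, ev_winv hv, mul_assoc]

theorem ev_wcomm (hv : Inv v) {x y : List ℕ} :
    appProd v (wcomm x y) = 1 ↔ appProd v x * appProd v y = appProd v y * appProd v x := by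
  simp only [wcomm, appProd_append, ev_winv hv]
  rw [inv_mul_eq_one, eq_inv_mul_iff_mul_eq]

theorem ev_replicate (v : ℕ → H) (L : List ℕ) : ∀ n, appProd v (List.replicate n L).flatten = appProd v L ^ n
  | 0 => by simp [appProd]
  | n + 1 => by rw [List.replicate_succ, List.flatten_cons, appProd_append, ev_replicate v L n, pow_succ]

theorem ev_congr {w : ℕ → H} : ∀ {L : List ℕ}, (∀ x ∈ L, v x = w x) → appProd v L = appProd w L
  | [], _ => rfl
  | x :: L, h => by
    rw [appProd, appProd, ev_congr fun y hy => h y (List.mem_cons_of_mem _ hy), h x List.mem_cons_self]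

theorem map_ev {H' : Type*} [Group H'] (ψ : H →* H') (v : ℕ → H) :
    ∀ L, ψ (appProd v L) = appProd (fun x => ψ (v x)) L
  | [] => map_one ψ
  | x :: L => by simp [appProd, map_ev ψ v L]

theorem ev_conjAll (g : H) (v : ℕ → H) : ∀ L, appProd (fun x => g * v x * g⁻¹) L = g * appProd v L * g⁻¹
  | [] => by simp [appProd]
  | x :: L => by rw [appProd, appProd, ev_conjAll g v L]; group

theorem ev_mem {S : Subgroup H} : ∀ {L : List ℕ}, (∀ x ∈ L, v x ∈ S) → appProd v L ∈ S
  | [], _ => one_mem S
  | x :: L, h => mul_mem (ev_mem fun y hy => h y (List.mem_cons_of_mem _ hy)) (h x List.mem_cons_self)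

end Semantics

/-- The identity of thirty-two points. -/
def id32 : ℕ := pack (List.range 32)

/-- A letter on thirty-two points. -/
def n32 (x : ℕ) : ℕ := v32N.getD x id32

/-- The inverse letter on thirty-two points. -/
def n32' (x : ℕ) : ℕ := if x < 4 then n32 (iv x) else id32

/-- A letter as a permutation. -/
def v32 (x : ℕ) : Equiv.Perm (Fin 32) := toPerm 32 (n32 x, n32' x)

/-- The value of a word on thirty-two points. -/
def m32 (L : List ℕ) : ℕ := L.foldl (fun r x => comp 32 (n32 x) r) id32

theorem n32_ok : ∀ x < 4, CfsgLib.SmallGroups.PermChain.ok 32 (n32 x, n32' x) = true := by decide +kernel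

theorem id32_ok : CfsgLib.SmallGroups.PermChain.ok 32 (id32, id32) = true := by decide +kernel

theorem rep_id32 : Rep id32 (1 : Equiv.Perm (Fin 32)) := fun i => by
  have : ∀ j : Fin 32, CfsgLib.SmallGroups.PermChain.get id32 j = (j : ℕ) := by decide +kernel
  exact this i

theorem rep_n32 (x : ℕ) : Rep (n32 x) (v32 x) := by
  by_cases hx : x < 4
  · exact rep_fst (n32_ok x hx)
  · have h1 : n32 x = id32 := List.getD_eq_default _ _ (by simp [v32N]; omega)
    have h2 : n32' x = id32 := if_neg hx
    rw [v32, h1, h2]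
    exact rep_fst id32_ok

theorem rep_foldl : ∀ (L : List ℕ) {r : ℕ} {σ : Equiv.Perm (Fin 32)}, Rep r σ →
    Rep (L.foldl (fun r x => comp 32 (n32 x) r) r) (appProd v32 L * σ)
  | [], r, σ, h => by simpa [appProd] using h
  | x :: L, r, σ, h => by
    rw [List.foldl_cons, appProd, mul_assoc]
    exact rep_foldl L (rep_comp (rep_n32 x) h)

theorem rep_m32 (L : List ℕ) : Rep (m32 L) (appProd v32 L) := by
  have h := rep_foldl L rep_id32
  rw [mul_one] at h
  exact h

theorem pack_eq_of_rep {n p q : ℕ} {σ : Equiv.Perm (Fin n)} (hp : Rep p σ) (hq : Rep q σ)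
    (fp : ∃ f : ℕ → ℕ, p = pack ((List.range n).map f) ∧ ∀ i < n, f i < 128)
    (fq : ∃ f : ℕ → ℕ, q = pack ((List.range n).map f) ∧ ∀ i < n, f i < 128) : p = q := by
  obtain ⟨f, rfl, hf⟩ := fp
  obtain ⟨g, rfl, hg⟩ := fq
  refine congrArg pack (List.map_congr_left fun i hi => ?_)
  rw [List.mem_range] at hi
  have get_map : ∀ (h : ℕ → ℕ), (∀ j < n, h j < 128) →
      CfsgLib.SmallGroups.PermChain.get (pack ((List.range n).map h)) i = h i := fun h hh => by
    rw [CfsgLib.SmallGroups.PermChain.get_pack _ (fun a ha => by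
      obtain ⟨j, hj, rfl⟩ := List.mem_map.1 ha
      exact hh j (List.mem_range.1 hj)) i (by simpa using hi)]
    simp
  have e := (hp ⟨i, hi⟩).trans (hq ⟨i, hi⟩).symm
  rwa [get_map f hf, get_map g hg] at e

theorem m32_range (L : List ℕ) : ∃ f : ℕ → ℕ, m32 L = pack ((List.range 32).map f) ∧ ∀ i < 32, f i < 128 := by
  induction L using List.reverseRecOn with
  | nil => exact ⟨id, by simp [m32, id32], fun i hi => show i < 128 by omega⟩
  | append_singleton L x _ =>
    exact ⟨fun i => CfsgLib.SmallGroups.PermChain.get (n32 x)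
      (CfsgLib.SmallGroups.PermChain.get (m32 L) i), by rw [m32, List.foldl_concat]; rfl,
      fun i _ => Nat.mod_lt _ (by norm_num)⟩

theorem m32_eq_iff {L L' : List ℕ} : m32 L = m32 L' ↔ appProd v32 L = appProd v32 L' := by
  constructor
  · intro h
    exact Equiv.ext fun i => Fin.ext ((rep_m32 L i).symm.trans (h ▸ rep_m32 L' i))
  · intro h
    exact pack_eq_of_rep (rep_m32 L) (h ▸ rep_m32 L') (m32_range L) (m32_range L')

theorem m32_append (L L' : List ℕ) : m32 (L ++ L') = comp 32 (m32 L') (m32 L) := by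
  refine pack_eq_of_rep (rep_m32 _) ?_ (m32_range _)
    ⟨_, rfl, fun i _ => Nat.mod_lt _ (by norm_num)⟩
  rw [appProd_append]
  exact rep_comp (rep_m32 L') (rep_m32 L)

/-- The elements of the model as words with their values. -/
def elems : List (List ℕ × ℕ) :=
  (qW.zip qV).flatMap fun q => (kW.zip kV).map fun k => (k.1 ++ q.1, comp 32 q.2 k.2)

theorem values_ok : qW.map m32 = qV ∧ kW.map m32 = kV := by decide +kernel

theorem const_ok : m32 [3] = uV ∧ m32 zW = zV ∧ m32 fW = fV ∧ m32 tW = tV ∧ m32 sW = sV ∧ m32 q1W = q1V ∧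
    m32 xW = xV := by decide +kernel

theorem mem_zip_map {α β : Type*} (f : α → β) : ∀ {l : List α} {a : α} {b : β}, (a, b) ∈ l.zip (l.map f) → b = f a
  | [], _, _, h => by simp at h
  | x :: l, a, b, h => by
    simp only [List.map_cons, List.zip_cons_cons, List.mem_cons, Prod.mk.injEq] at h
    rcases h with ⟨rfl, rfl⟩ | h
    exacts [rfl, mem_zip_map f h]

theorem elems_spec {e : List ℕ × ℕ} (he : e ∈ elems) : m32 e.1 = e.2 ∧
    ∃ q ∈ qW, ∃ k ∈ kW, e.1 = k ++ q := by
  simp only [elems, List.mem_flatMap, List.mem_map] at he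
  obtain ⟨⟨q, qv⟩, hq, ⟨k, kv⟩, hk, rfl⟩ := he
  have hq' := hq; have hk' := hk
  rw [← values_ok.1] at hq
  rw [← values_ok.2] at hk
  refine ⟨?_, q, (List.of_mem_zip hq').1, k, (List.of_mem_zip hk').1, rfl⟩
  rw [mem_zip_map m32 hq, mem_zip_map m32 hk]
  exact m32_append k q

end CfsgLib.Characterizations.HallJanko.Uniq
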