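import Cfsg.Agent.Lib.Sporadic.CosetCertApply
import Cfsg.Agent.Lib.Characterizations.HallJanko.Uniq.Words

/-!
# Certificates read in an arbitrary group
-/

set_option autoImplicit false

namespace CfsgLib.Characterizations.HallJanko.Uniq

open CfsgLib.Sporadic.CosetCert

/-- The words of a certificate split into relators and subgroup words. -/
def WordsAre (C : Cert) (rels : List (List ℕ)) (subs : List ℕ) : Prop :=
  ∀ i < C.words.length, (i < C.nr → C.letters i ∈ rels) ∧ (¬ i < C.nr → ∃ s ∈ subs, C.letters i = [s])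

/-- A certificate bounds the subgroup generated by elements satisfying its relators. -/
theorem card_closure_le {C : Cert} (hV : C.Valid) (hN : 0 < C.N) {H : Type*} [Group H] (g : ℕ → H)
    (hinv : ∀ x < C.nl, C.inv x = iv x) (hg : Inv g) {rels : List (List ℕ)} {subs : List ℕ}
    (hW : WordsAre C rels subs) (hr : ∀ L ∈ rels, appProd g L = 1) (S : Subgroup H)
    (hS : ∀ s ∈ subs, g s ∈ S) :
    S.relIndex (Subgroup.closure (g '' Set.Iio C.nl)) ≤ C.N ∧
      S.relIndex (Subgroup.closure (g '' Set.Iio C.nl)) ≠ 0 := by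
  let g' : ℕ → H := fun x => if x < C.nl then g x else 1
  let I : C.Interp H (H ⧸ S) :=
    { g := g'
      base := ((1 : H) : H ⧸ S)
      g_nl := by simp [g']
      g_inv := fun x hx => by
        have h' := hV.inv_lt x hx
        simp only [g']
        rw [if_pos h', if_pos hx, hinv x hx]
        exact hg x }
  have himg : I.g '' Set.Iio C.nl = g '' Set.Iio C.nl :=
    Set.image_congr fun x hx => if_pos hx
  have hres : I.Respects := by
    intro i hi
    have hlt : ∀ x ∈ C.letters i, x < C.nl := fun x hx => by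
      obtain ⟨j, -, rfl⟩ := List.mem_map.1 hx
      exact hV.letter_lt i hi 0 j
    have e : I.prod (C.word i).1 (C.word i).2 0 (C.word i).1 = appProd g (C.letters i) := by
      rw [Cert.Interp.prod_eq_appProd]
      exact ev_congr fun x hx => if_pos (hlt x hx)
    refine ⟨fun h => e.trans (hr _ ((hW i hi).1 h)), ?_⟩
    rw [e]
    by_cases h : i < C.nr
    · rw [hr _ ((hW i hi).1 h), one_smul]
    · obtain ⟨s, hs, es⟩ := (hW i hi).2 h
      rw [es, ev_single]
      show ((g s * 1 : H) : H ⧸ S) = ((1 : H) : H ⧸ S)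
      rw [mul_one, QuotientGroup.eq, mul_one]
      exact inv_mem (hS s hs)
  have := Cert.relIndex_le I rfl hV hres hN
  rwa [himg] at this

/-- The bound on the order. -/
theorem natCard_closure_le {C : Cert} (hV : C.Valid) (hN : 0 < C.N) {H : Type*} [Group H] (g : ℕ → H)
    (hinv : ∀ x < C.nl, C.inv x = iv x) (hg : Inv g) {rels : List (List ℕ)} {subs : List ℕ}
    (hW : WordsAre C rels subs) (hr : ∀ L ∈ rels, appProd g L = 1) (S : Subgroup H)
    (hS : ∀ s ∈ subs, g s ∈ S) (hle : S ≤ Subgroup.closure (g '' Set.Iio C.nl)) {m : ℕ}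
    (hm : Nat.card S ≤ m ∧ Nat.card S ≠ 0) :
    Nat.card (Subgroup.closure (g '' Set.Iio C.nl)) ≤ C.N * m ∧
      Nat.card (Subgroup.closure (g '' Set.Iio C.nl)) ≠ 0 :=
  card_le_of_relIndex hle (card_closure_le hV hN g hinv hg hW hr S hS) hm

end CfsgLib.Characterizations.HallJanko.Uniq
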