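import Cfsg.Agent.Lib.Sporadic.CosetCertGroup

/-!
# Coset enumeration certificate for groups of Hall–Janko type (certK)

Machine-generated data (20 cosets, 22 nodes, 65 facts) and the kernel checks on it.
-/

set_option maxRecDepth 100000
set_option autoImplicit false

namespace CfsgLib.Characterizations.HallJanko.Uniq

open CfsgLib.Sporadic.CosetCert

/-- The certificate. -/
def certK : Cert where
  N := 20
  M := 22
  nl := 3
  nr := 3
  fuel := 3
  vb := 7
  rb := 7
  iv := 0x120
  words := [(2, 0x0), (3, 0x111), (10, 0x1010101010), (1, 0x1)]
  slots := (.leaf 0x7e4c000784c0007c49d110001d950001e95824d312000201148412930001a10725110f0001192664500c0001c0e3c2d0910000e0b6e3d68d0001b0c342970e0000c0a6a34f900000e8f3638b080000c8d2e30a070001908241550600008056224a8b00018061c1098a00006045e1d48900008891e205030000687161840200016020c044850000201560c3840000283060810000014004e00081)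
  just := (.leaf 0x91480000000028d000880000000044000140008122c00000000000000000000000000812ac000025580020093000000000000228c001044180000000000000000008120c00000000002007b000000000000000018700088002006300000000000811cc001042d80000000000000000008116c08b000484060011000000000008118c001042980020073000000000008114c08a0004800000000000000000000000000000000020043000000000000000000000000002003b000000000008110c00104158002003300000000000810ac08500048000000000000000000810cc001041180000000000000000008108c084000484000011000000000000000000000000002001b0000000000000000000000000020013000000000008104c001040580000000000000000008102c0810004800000000000000000000000000000000020003000000000008100c000000c80000000)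
  parent := (.leaf 0x2884609210c1e83105e0b81582a0420740b8160260480680900e01800800)

theorem certK_keys0 : certK.keysOK 0 88 = true := by decide +kernel
theorem certK_closed : certK.closedFrom 66 0 20 = true := by decide +kernel

theorem certK_valid : certK.Valid :=
  valid_of (fun k hk => (keysOK_spec certK_keys0) k (Nat.zero_le _) hk)
    (fun u hu => ⟨66, (closedFrom_spec certK_closed) u (Nat.zero_le _) hu⟩)
    (by decide +kernel) (by decide +kernel)

end CfsgLib.Characterizations.HallJanko.Uniq
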