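import Cfsg.Agent.Lib.Characterizations.HallJanko.Uniq.Words
import Cfsg.Agent.Lib.Characterizations.HallJanko.Basic

/-!
# Coordinates on the centraliser of the central involution

The five pairs of involutions get representatives permuted exactly by the complement and with product one.
-/

set_option autoImplicit false
set_option maxRecDepth 100000
set_option linter.style.haveILetI false
set_option linter.unusedSectionVars false

namespace CfsgLib.Characterizations.HallJanko.Uniq

open CfsgLib.Sporadic.CosetCert (appProd appProd_append)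
open CfsgLib.Characterizations.HallJankoCount
open CfsgLib.Involution.Dihedral
open Equiv Data

/-- The permutations of five points of the first three letters. -/
def five5 : ℕ → Perm (Fin 5)
  | 0 => swap 0 1 * swap 2 3
  | 1 => swap 1 2 * swap 2 4
  | 2 => (swap 1 2 * swap 2 4)⁻¹
  | _ => 1

/-- A word in the first three letters. -/
abbrev LowK (L : List ℕ) : Prop := ∀ x ∈ L, x < 3

theorem five_facts : (∀ i : Fin 5, LowK (kTo.getD i []) ∧ appProd five5 (kTo.getD i []) 0 = i) ∧
    (∀ L ∈ kW, LowK L) ∧ LowK fW ∧ LowK tW ∧ LowK tW₁ ∧ LowK tW₂ ∧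
    appProd five5 fW 0 = 0 ∧ appProd five5 fW ^ 3 = 1 ∧ appProd five5 tW₁ 0 = 0 ∧ appProd five5 tW₁ ^ 3 = 1 ∧
    appProd five5 tW₂ 0 = 0 ∧ appProd five5 tW₂ ^ 3 = 1 ∧ appProd five5 tW = appProd five5 (tW₂ ++ tW₁) ∧
    (∀ L ∈ relK, LowK L ∧ appProd five5 L = 1) := by decide +kernel

theorem kW_cover : ∀ σ : Perm (Fin 5), Perm.sign σ = 1 → ∃ L ∈ kW, appProd five5 L = σ := by decide +kernel

theorem sign_five5 : Perm.sign (five5 0) = 1 ∧ Perm.sign (five5 1) = 1 ∧ five5 0 * five5 0 = 1 := by decide +kernel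

variable {G : Type*} [Group G]

/-- Representatives of the five pairs with the action of the complement. -/
structure Pts (Q K : Subgroup G) (z : G) (t : Fin 5 → G) (φ : ↥K →* Perm (Fin 5)) : Prop where
  setting : Setting Q K z
  inj : Function.Injective φ
  range : φ.range = alternatingGroup (Fin 5)
  mem : ∀ i, t i ∈ invs Q z
  all : ∀ u ∈ invs Q z, ∃ i, Near z (t i) u
  dist : ∀ i j, Near z (t i) (t j) → i = j
  eq : ∀ (k : ↥K) i, Near z (t (φ k i)) ((k : G) * t i * (k : G)⁻¹)


variable [Finite G] {z : G} {Q K : Subgroup G} {t : Fin 5 → G} {φ : ↥K →* Perm (Fin 5)}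

/-- The letters. -/
def letK (a b : K) (u : G) : ℕ → G
  | 0 => a
  | 1 => b
  | 2 => (b⁻¹ : K)
  | 3 => u
  | _ => 1

/-- The letters inside the complement. -/
def letA (a b : K) : ℕ → K
  | 0 => a
  | 1 => b
  | 2 => b⁻¹
  | _ => 1

/-- Elements of the complement with the chosen permutations and a representative. -/
structure Coord (Q K : Subgroup G) (z : G) (t : Fin 5 → G) (φ : ↥K →* Perm (Fin 5)) (a b : K) (u : G) : Prop where
  pts : Pts Q K z t φ
  fa : φ a = five5 0
  fb : φ b = five5 1
  near : Near z (t 0) u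

namespace Coord

variable {a b : K} {u : G} (h : Coord Q K z t φ a b u)
include h

theorem phi_ev {L : List ℕ} (hL : LowK L) : φ (appProd (letA a b) L) = appProd five5 L := by
  rw [map_ev]
  refine ev_congr fun x hx => ?_
  have := hL x hx
  interval_cases x
  · exact h.fa
  · exact h.fb
  · show φ b⁻¹ = _
    rw [map_inv, h.fb]; rfl

theorem coe_ev {L : List ℕ} (hL : LowK L) : appProd (letK a b u) L = ((appProd (letA a b) L : K) : G) := by
  show _ = K.subtype (appProd (letA a b) L)
  rw [map_ev]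
  refine ev_congr fun x hx => ?_
  have := hL x hx
  interval_cases x <;> rfl

theorem inv_letters : Inv (letK a b u) := by
  intro x
  have haa : (a : G)⁻¹ = a := by
    refine inv_eq_of_mul_eq_one_right ?_
    have : a * a = 1 := h.pts.inj (by rw [map_mul, h.fa, map_one]; exact sign_five5.2.2)
    exact congrArg Subtype.val this
  have hu : u⁻¹ = u := by
    refine inv_eq_of_mul_eq_one_right ?_
    rcases h.near with e | e <;> rw [e]
    · exact (h.pts.mem 0).2.1
    · have hz := h.pts.setting.extra.z_comm (h.pts.mem 0).1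
      rw [← mul_assoc, mul_assoc (t 0) z, hz, ← mul_assoc, (h.pts.mem 0).2.1, one_mul, h.pts.setting.extra.z_sq]
  rcases x with _ | _ | _ | _ | x
  · exact haa.symm
  · exact rfl
  · exact (inv_inv (b : G)).symm
  · exact hu.symm
  · have : iv (x + 1 + 1 + 1 + 1) = 4 ∨ iv (x + 1 + 1 + 1 + 1) = 5 ∨ iv (x + 1 + 1 + 1 + 1) ≥ 4 := by
      rcases x with _ | _ | _ | x
      · exact Or.inr (Or.inl rfl)
      · exact Or.inl rfl
      · exact Or.inr (Or.inr (by decide))
      · refine Or.inr (Or.inr ?_)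
        rw [iv, List.getD_eq_default _ _ (by simp [invLetter])]
        omega
    have h4 : ∀ y, y ≥ 4 → letK a b u y = 1 := fun y hy => by
      obtain ⟨y, rfl⟩ := Nat.exists_eq_add_of_le hy
      rw [Nat.add_comm]; rfl
    rw [h4 _ (by omega), h4 _ (by omega), inv_one]

theorem near_invs {i : Fin 5} {w : G} (hw : Near z (t i) w) : w ∈ invs Q z := by
  rcases hw with e | e <;> rw [e]
  · exact h.pts.mem i
  · have hm := h.pts.mem i
    have hz := h.pts.setting.extra.z_comm hm.1
    refine ⟨mul_mem hm.1 h.pts.setting.extra.z_mem, ?_, fun e' => hm.2.2.2 ?_, fun e' => hm.2.2.1 ?_⟩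
    · rw [← mul_assoc, mul_assoc (t i) z, hz, ← mul_assoc, hm.2.1, one_mul, h.pts.setting.extra.z_sq]
    · rw [mul_eq_one_iff_eq_inv, h.pts.setting.extra.inv_z] at e'; exact e'
    · exact mul_eq_right.1 e'

theorem near_uW (i : Fin 5) : Near z (t i) (appProd (letK a b u) (uW i)) := by
  obtain ⟨hL, hi⟩ := five_facts.1 i
  rw [uW, ev_wconj h.inv_letters, ev_single, h.coe_ev hL]
  set k := appProd (letA a b) (kTo.getD i []) with hk
  have h1 := h.pts.eq k 0
  rw [h.phi_ev hL, hi] at h1
  exact near_trans h.pts.setting.pre h1 (near_conj h.pts.setting.pre k.2 h.near)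

theorem uW_invs (i : Fin 5) : appProd (letK a b u) (uW i) ∈ invs Q z := h.near_invs (h.near_uW i)

theorem not_comm {i j : Fin 5} (hij : i ≠ j) :
    ¬ Commute (appProd (letK a b u) (uW i)) (appProd (letK a b u) (uW j)) := fun hc => by
  have hp := h.pts.setting.pre
  have h1 : Commute (t i) (appProd (letK a b u) (uW j)) :=
    (comm_near hp (h.uW_invs j).1 (h.near_uW i)).1 hc
  have h2 : Commute (t j) (t i) := (comm_near hp (h.pts.mem i).1 (h.near_uW j)).1 h1.symm
  exact not_commute h.pts.setting h.pts.inj h.pts.range h.pts.mem h.pts.all h.pts.dist h.pts.eq hij h2.symm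

theorem anti {i j : Fin 5} (hij : i ≠ j) :
    appProd (letK a b u) (uW j) * appProd (letK a b u) (uW i) =
      appProd (letK a b u) (uW i) * appProd (letK a b u) (uW j) * z :=
  (comm_or h.pts.setting.pre (h.uW_invs j).1 (h.uW_invs i).1).resolve_left fun e => h.not_comm hij e.symm

theorem sq_prod {i j : Fin 5} (hij : i ≠ j) :
    appProd (letK a b u) (uW i) * appProd (letK a b u) (uW j) *
      (appProd (letK a b u) (uW i) * appProd (letK a b u) (uW j)) = z := by
  have e := h.anti hij
  set x := appProd (letK a b u) (uW i) with hx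
  set y := appProd (letK a b u) (uW j) with hy
  have hxx : x * x = 1 := (h.uW_invs i).2.1
  have hyy : y * y = 1 := (h.uW_invs j).2.1
  have hzy : z * y = y * z := h.pts.setting.extra.z_comm (h.uW_invs j).1
  calc x * y * (x * y) = x * (y * x) * y := by group
    _ = x * (x * y * z) * y := by rw [e]
    _ = x * x * (y * (z * y)) := by group
    _ = z := by rw [hzy, hxx, one_mul, ← mul_assoc, hyy, one_mul]

theorem ev_zW : appProd (letK a b u) zW = z := by
  simp only [zW, appProd_append]
  rw [← mul_assoc]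
  exact h.sq_prod (i := 1) (j := 0) (by decide)

/-- An element of order three fixing the first point centralises `u`. -/
theorem comm_fix {L : List ℕ} (hL : LowK L) (h0 : appProd five5 L 0 = 0) (h3 : appProd five5 L ^ 3 = 1) :
    Commute (appProd (letK a b u) L) u := by
  rw [h.coe_ev hL]
  set k := appProd (letA a b) L with hk
  have hk3 : k ^ 3 = 1 := h.pts.inj (by rw [map_pow, h.phi_ev hL, h3, map_one])
  have h1 := h.pts.eq k 0
  rw [h.phi_ev hL, h0] at h1
  have hp := h.pts.setting.pre
  have h2 : Near z u ((k : G) * u * (k : G)⁻¹) :=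
    near_trans hp (near_symm hp h.near) (near_trans hp h1 (near_conj hp k.2 h.near))
  rcases h2 with e | e
  · exact mul_inv_eq_iff_eq_mul.1 e
  · exfalso
    have hkz : (k : G) * z * (k : G)⁻¹ = z := conj_z hp k.2
    have e2 : ((k : G) * (k : G)) * u * ((k : G) * (k : G))⁻¹ = u := by
      calc _ = (k : G) * ((k : G) * u * (k : G)⁻¹) * (k : G)⁻¹ := by group
        _ = (k : G) * (u * z) * (k : G)⁻¹ := by rw [e]
        _ = (k : G) * u * (k : G)⁻¹ * ((k : G) * z * (k : G)⁻¹) := by group
        _ = u := by rw [e, hkz, mul_assoc, h.pts.setting.extra.z_sq, mul_one]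
    have e3 : (k : G) * (k : G) * (k : G) = 1 := by
      rw [← pow_two, ← pow_succ, ← Subgroup.coe_pow, hk3]; rfl
    have e4 : u = u * z := by
      calc u = ((k : G) * k * k) * u * ((k : G) * k * k)⁻¹ := by rw [e3]; group
        _ = (k : G) * k * ((k : G) * u * (k : G)⁻¹) * ((k : G) * k)⁻¹ := by group
        _ = ((k : G) * k * u * ((k : G) * k)⁻¹) * ((k : G) * ((k : G) * z * (k : G)⁻¹) * (k : G)⁻¹) := by
            rw [e]; group
        _ = u * z := by rw [e2, hkz, hkz]
    exact h.pts.setting.extra.z_ne (mul_eq_left.1 e4.symm)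

theorem comm_tW : Commute (appProd (letK a b u) tW) u := by
  obtain ⟨-, -, -, ht, h1, h2, -, -, a1, b1, a2, b2, e, -⟩ := five_facts
  have hL : LowK (tW₂ ++ tW₁) := fun x hx => by
    rcases List.mem_append.1 hx with hx | hx
    exacts [h2 x hx, h1 x hx]
  have : appProd (letA a b) tW = appProd (letA a b) (tW₂ ++ tW₁) :=
    h.pts.inj (by rw [h.phi_ev ht, h.phi_ev hL, e])
  rw [h.coe_ev ht, this, ← h.coe_ev hL, appProd_append]
  exact (h.comm_fix h1 a1 b1).mul_left (h.comm_fix h2 a2 b2)

/-- The product of the five representatives. -/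
theorem prod_cases : appProd (letK a b u) (uW 4 ++ uW 3 ++ uW 2 ++ uW 1 ++ uW 0) = 1 ∨
    appProd (letK a b u) (uW 4 ++ uW 3 ++ uW 2 ++ uW 1 ++ uW 0) = z := by
  have hp := h.pts.setting.pre
  let w : Fin 5 → G := fun i => appProd (letK a b u) (uW i)
  have e : appProd (letK a b u) (uW 4 ++ uW 3 ++ uW 2 ++ uW 1 ++ uW 0) = w 0 * (w 1 * (w 2 * (w 3 * w 4))) := by
    simp only [appProd_append]
    rfl
  rw [e]
  have hmem : ∀ i, w i ∈ Q := fun i => (h.uW_invs i).1
  refine central_of_commute hp (mul_mem (hmem 0) (mul_mem (hmem 1) (mul_mem (hmem 2) (mul_mem (hmem 3) (hmem 4)))))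
    fun v hv => ?_
  obtain ⟨i, hi⟩ := h.pts.all v hv
  refine ((comm_near (x := w i) (y := v) hp (mul_mem (hmem 0) (mul_mem (hmem 1) (mul_mem (hmem 2) (mul_mem (hmem 3) (hmem 4))))) ?_).2 ?_).symm
  · exact near_trans hp (near_symm hp (h.near_uW i)) hi
  have hmov : ∀ j, w j * w i = w i * w j * z ^ (if i = j then 0 else 1) := fun j => by
    split_ifs with hij
    · subst hij; simp
    · rw [pow_one]; exact h.anti hij
  have step : ∀ {x y : G} {m n : ℕ}, y ∈ Q → x * w i = w i * x * z ^ m → y * w i = w i * y * z ^ n →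
      x * y * w i = w i * (x * y) * z ^ (m + n) := fun {x y m n} hy hx hy' => by
    have hc : Commute (z ^ m) y := Commute.pow_left (h.pts.setting.extra.z_comm hy) m
    calc x * y * w i = x * (y * w i) := mul_assoc _ _ _
      _ = x * w i * y * z ^ n := by rw [hy']; group
      _ = w i * x * (z ^ m * y) * z ^ n := by rw [hx]; group
      _ = w i * (x * y) * z ^ (m + n) := by rw [hc.eq, pow_add]; group
  have tot := step (mul_mem (hmem 1) (mul_mem (hmem 2) (mul_mem (hmem 3) (hmem 4)))) (hmov 0)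
    (step (mul_mem (hmem 2) (mul_mem (hmem 3) (hmem 4))) (hmov 1)
      (step (mul_mem (hmem 3) (hmem 4)) (hmov 2) (step (hmem 4) (hmov 3) (hmov 4))))
  have hsum : ∀ i : Fin 5, (if i = 0 then 0 else 1) + ((if i = 1 then 0 else 1) + ((if i = 2 then 0 else 1) +
      ((if i = 3 then 0 else 1) + if i = 4 then 0 else 1))) = 4 := by decide
  rw [hsum i, show z ^ 4 = (z * z) * (z * z) by simp [pow_succ, mul_assoc], h.pts.setting.extra.z_sq, one_mul, mul_one] at tot
  exact tot.symm

/-- Replacing `u` by `u z` multiplies the product by `z`. -/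
theorem shift : Coord Q K z t φ a b (u * z) ∧
    ∀ i : Fin 5, appProd (letK a b (u * z)) (uW i) = appProd (letK a b u) (uW i) * z := by
  have hp := h.pts.setting.pre
  have h' : Coord Q K z t φ a b (u * z) :=
    ⟨h.pts, h.fa, h.fb, near_trans hp h.near (Or.inr rfl)⟩
  refine ⟨h', fun i => ?_⟩
  obtain ⟨hL, -⟩ := five_facts.1 i
  rw [uW, ev_wconj h'.inv_letters, ev_wconj h.inv_letters, ev_single, ev_single, h'.coe_ev hL, h.coe_ev hL,
    show letK a b (u * z) 3 = u * z from rfl, show letK a b u 3 = u from rfl]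
  have hkz := conj_z hp (appProd (letA a b) (kTo.getD i [])).2
  rw [mul_inv_eq_iff_eq_mul] at hkz
  generalize ((appProd (letA a b) (kTo.getD i []) : K) : G) = k at hkz ⊢
  calc _ = k * u * (z * k⁻¹) := by group
    _ = _ := by
      rw [show z * k⁻¹ = k⁻¹ * z by rw [eq_inv_mul_iff_mul_eq, ← mul_assoc, hkz, mul_inv_cancel_right], ← mul_assoc]

end Coord

theorem five_shift {x0 x1 x2 x3 x4 z : G} (hzz : z * z = 1) (h1 : z * x1 = x1 * z) (h2 : z * x2 = x2 * z)
    (h3 : z * x3 = x3 * z) (h4 : z * x4 = x4 * z) (e : x0 * (x1 * (x2 * (x3 * x4))) = z) :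
    x0 * z * (x1 * z * (x2 * z * (x3 * z * (x4 * z)))) = 1 := by
  have step : ∀ {x y w : G}, z * y = y * z → x * z * (y * z * w) = x * (y * w) := fun {x y w} hy => by
    calc x * z * (y * z * w) = x * (z * y) * z * w := by group
      _ = x * y * (z * z) * w := by rw [hy]; group
      _ = x * (y * w) := by rw [hzz, mul_one, mul_assoc]
  rw [step h1, step h3,
    show x0 * (x1 * (x2 * (x3 * (x4 * z)))) = x0 * (x1 * (x2 * (x3 * x4))) * z by group, e, hzz]

/-- Coordinates with product one. -/
theorem exists_coord (h : Setting Q K z) : ∃ (t : Fin 5 → G) (φ : ↥K →* Perm (Fin 5)) (a b : K) (u : G),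
    Coord Q K z t φ a b u ∧ appProd (letK a b u) (uW 4 ++ uW 3 ++ uW 2 ++ uW 1 ++ uW 0) = 1 := by
  obtain ⟨t, φ, h1, h2, h3, h4, h5, h6⟩ := exists_frame h
  have hp : Pts Q K z t φ := ⟨h, h1, h2, h3, h4, h5, h6⟩
  obtain ⟨a, ha⟩ : five5 0 ∈ φ.range := by rw [h2]; exact Perm.mem_alternatingGroup.2 sign_five5.1
  obtain ⟨b, hb⟩ : five5 1 ∈ φ.range := by rw [h2]; exact Perm.mem_alternatingGroup.2 sign_five5.2.1
  have hc : Coord Q K z t φ a b (t 0) := ⟨hp, ha, hb, Or.inl rfl⟩
  rcases hc.prod_cases with e | e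
  · exact ⟨t, φ, a, b, t 0, hc, e⟩
  obtain ⟨hc', hs⟩ := hc.shift
  refine ⟨t, φ, a, b, t 0 * z, hc', ?_⟩
  simp only [appProd_append] at e ⊢
  have hz : ∀ i : Fin 5, z * appProd (letK a b (t 0)) (uW i) = appProd (letK a b (t 0)) (uW i) * z :=
    fun i => h.extra.z_comm (hc.uW_invs i).1
  rw [show appProd (letK a b (t 0 * z)) (uW 0) = _ from hs 0, show appProd (letK a b (t 0 * z)) (uW 1) = _ from hs 1,
    show appProd (letK a b (t 0 * z)) (uW 2) = _ from hs 2, show appProd (letK a b (t 0 * z)) (uW 3) = _ from hs 3,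
    show appProd (letK a b (t 0 * z)) (uW 4) = _ from hs 4]
  exact five_shift h.extra.z_sq (hz 1) (hz 2) (hz 3) (hz 4) e

end CfsgLib.Characterizations.HallJanko.Uniq
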