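import Cfsg.Agent.Lib.Characterizations.HallJanko.Uniq.Coordinates
import Cfsg.Agent.Lib.Characterizations.HallJanko.Uniq.Apply
import Cfsg.Agent.Lib.Characterizations.HallJanko.Uniq.CertK
import Cfsg.Agent.Lib.Characterizations.HallJanko.Uniq.CertC

/-!
# The centraliser of the central involution is the model
-/

set_option autoImplicit false
set_option maxRecDepth 100000
set_option linter.style.haveILetI false
set_option linter.unusedSectionVars false

namespace CfsgLib.Characterizations.HallJanko.Uniq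

open CfsgLib.Sporadic.CosetCert (appProd appProd_append)
open CfsgLib.Characterizations.HallJankoCount
open CfsgLib.Involution.Dihedral
open Data

/-- A word in the four letters of the centraliser. -/
abbrev Low (L : List ℕ) : Prop := ∀ x ∈ L, x < 4

/-- The indices of the factors of a word for an element of `Q`. -/
def qIdx (m : ℕ) : List (Fin 5) := ([0, 1, 2, 3] : List (Fin 5)).filter fun i => m.testBit i.val

theorem word_facts :
    qW = ((List.range 32).map fun m => ((qIdx m).map fun i => uW i.val).flatten ++ if m.testBit 4 then zW else []) ∧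
    (∀ e ∈ elems, Low e.1) ∧ Low zW ∧ Low sW ∧ Low q1W ∧ Low fW ∧ Low tW ∧ Low xW ∧ Low yW ∧ Low yW' ∧
    (∀ i : Fin 5, Low (uW i.val)) ∧ (∀ L ∈ qW, Low L) := by decide +kernel

/-- The pattern of commutation determines the word up to the central bit. -/
theorem pattern_inj : ∀ m < 32, ∀ m' < 32,
    (∀ i : Fin 5, ((qIdx m).countP fun j => decide (i ≠ j)) % 2 = ((qIdx m').countP fun j => decide (i ≠ j)) % 2) →
      qIdx m = qIdx m' ∧ (m.testBit 4 = m'.testBit 4 → m = m') := by decide +kernel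

theorem wordsC₁ : WordsAre certC relC [0, 1] := by unfold WordsAre; decide +kernel

theorem wordsK₁ : WordsAre certK relK [1] := by unfold WordsAre; decide +kernel

theorem invC₁ : (∀ x < certC.nl, certC.inv x = iv x) ∧ (∀ x < certK.nl, certK.inv x = iv x) := by decide +kernel

theorem wordsC : WordsAre certC relC [0, 1] ∧ WordsAre certK relK [1] ∧ (∀ x < certC.nl, certC.inv x = iv x) ∧
    (∀ x < certK.nl, certK.inv x = iv x) ∧ certC.N = 32 ∧ certC.nl = 4 ∧ certK.N = 20 ∧ certK.nl = 3 :=
  ⟨wordsC₁, wordsK₁, invC₁.1, invC₁.2, rfl, rfl, rfl, rfl⟩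

variable {G : Type*} [Group G] [Finite G]

/-- Coordinates identifying the centraliser of `z` with the model. -/
structure Frame (Q : Subgroup G) (z : G) (v : ℕ → G) : Prop where
  inv : Inv v
  cent : ∀ x, v x * z = z * v x
  hz : appProd v zW = z
  qmem : ∀ L ∈ qW, appProd v L ∈ Q
  eqv : ∀ L L' : List ℕ, Low L → Low L' → (appProd v L = appProd v L' ↔ m32 L = m32 L')
  cover : ∀ g : G, g * z = z * g → ∃ e ∈ elems, appProd v e.1 = g

theorem Frame.conj {Q : Subgroup G} {z : G} {v : ℕ → G} (h : Frame Q z v) {g : G} (hg : g * z = z * g)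
    (hQ : ∀ q ∈ Q, g * q * g⁻¹ ∈ Q) : Frame Q z (fun x => g * v x * g⁻¹) where
  inv := fun x => by
    show g * v (iv x) * g⁻¹ = (g * v x * g⁻¹)⁻¹
    rw [h.inv x]; group
  cent := fun x => by
    have hgz : g * z * g⁻¹ = z := by rw [hg, mul_inv_cancel_right]
    calc g * v x * g⁻¹ * z = g * v x * g⁻¹ * (g * z * g⁻¹) := by rw [hgz]
      _ = g * (v x * z) * g⁻¹ := by group
      _ = g * (z * v x) * g⁻¹ := by rw [h.cent x]
      _ = g * z * g⁻¹ * (g * v x * g⁻¹) := by group
      _ = z * (g * v x * g⁻¹) := by rw [hgz]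
  hz := by rw [ev_conjAll, h.hz, hg, mul_inv_cancel_right]
  qmem := fun L hL => by rw [ev_conjAll]; exact hQ _ (h.qmem L hL)
  eqv := fun L L' hL hL' => by rw [ev_conjAll, ev_conjAll, mul_left_inj, mul_right_inj]; exact h.eqv L L' hL hL'
  cover := fun c hc => by
    obtain ⟨e, he, he'⟩ := h.cover (g⁻¹ * c * g) (by
      have hg' : g⁻¹ * z = z * g⁻¹ := by
        rw [inv_mul_eq_iff_eq_mul, ← mul_assoc, hg, mul_inv_cancel_right]
      calc g⁻¹ * c * g * z = g⁻¹ * c * (g * z) := by group
        _ = g⁻¹ * (c * z) * g := by rw [hg]; group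
        _ = g⁻¹ * z * c * g := by rw [hc]; group
        _ = z * (g⁻¹ * c * g) := by rw [hg']; group)
    exact ⟨e, he, by rw [ev_conjAll, he']; group⟩

/-- The centraliser of `z` is `Q K`. -/
structure Cent (z : G) (Q K : Subgroup G) : Prop where
  setting : Setting Q K z
  sup : K ⊔ Q = Subgroup.centralizer ({z} : Set G)
  cent_le : ∀ c ∈ Subgroup.centralizer ({z} : Set G), (∀ q ∈ Q, c * q * c⁻¹ = q) → c ∈ Q

theorem Cent.of_hj {z : G} {Q K : Subgroup G} (h : HJ z Q K) : Cent z Q K := ⟨h.setting, h.sup, h.cent_le⟩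

namespace Cent

variable {z : G} {Q K : Subgroup G}

theorem Q_le (h : Cent z Q K) : Q ≤ Subgroup.centralizer ({z} : Set G) := h.sup ▸ le_sup_right

theorem K_le (h : Cent z Q K) : K ≤ Subgroup.centralizer ({z} : Set G) := h.sup ▸ le_sup_left

theorem norm (h : Cent z Q K) {c q : G} (hc : c ∈ Subgroup.centralizer ({z} : Set G)) (hq : q ∈ Q) :
    c * q * c⁻¹ ∈ Q := by
  have hK : K ≤ Subgroup.normalizer (Q : Set G) := fun k hk => Subgroup.mem_normalizer_iff_map_conj_eq.2
    (Subgroup.eq_of_le_of_card_ge (by rintro _ ⟨x, hx, rfl⟩; exact h.setting.norm k hk x hx)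
      (by rw [Subgroup.card_map_of_injective (MulAut.conj k).injective]))
  rw [← h.sup] at hc
  exact (Subgroup.mem_normalizer_iff.1 ((sup_le hK Subgroup.le_normalizer : K ⊔ Q ≤ _) hc) q).1 hq

theorem dec (h : Cent z Q K) {c : G} (hc : c ∈ Subgroup.centralizer ({z} : Set G)) :
    ∃ q ∈ Q, ∃ k ∈ K, c = q * k := by
  have hK : K ≤ Subgroup.normalizer (Q : Set G) := fun k hk => Subgroup.mem_normalizer_iff_map_conj_eq.2
    (Subgroup.eq_of_le_of_card_ge (by rintro _ ⟨x, hx, rfl⟩; exact h.setting.norm k hk x hx)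
      (by rw [Subgroup.card_map_of_injective (MulAut.conj k).injective]))
  have h1 : c ∈ ((Q ⊔ K : Subgroup G) : Set G) := by rw [sup_comm, h.sup]; exact hc
  rw [Subgroup.coe_mul_of_right_le_normalizer_left Q K hK] at h1
  obtain ⟨q, hq, k, hk, rfl⟩ := h1
  exact ⟨q, hq, k, hk, rfl⟩

theorem card_C (h : Cent z Q K) : Nat.card (Subgroup.centralizer ({z} : Set G)) = 1920 := by
  have e : Nat.card (Subgroup.centralizer ({z} : Set G)) = Nat.card (↥Q × ↥K) := by
    refine (Nat.card_congr (Equiv.ofBijective (fun p : ↥Q × ↥K => (⟨p.1 * p.2, mul_mem (h.Q_le p.1.2)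
      (h.K_le p.2.2)⟩ : Subgroup.centralizer ({z} : Set G))) ⟨?_, ?_⟩)).symm
    · rintro ⟨q, k⟩ ⟨q', k'⟩ he
      have e' : (q : G) * k = q' * k' := congrArg Subtype.val he
      have hm : (q' : G)⁻¹ * q ∈ Q ⊓ K := Subgroup.mem_inf.2 ⟨mul_mem (inv_mem q'.2) q.2, by
        rw [show (q' : G)⁻¹ * q = (k' : G) * (k : G)⁻¹ by
          rw [eq_mul_inv_iff_mul_eq, mul_assoc, e', inv_mul_cancel_left]]
        exact mul_mem k'.2 (inv_mem k.2)⟩
      rw [h.setting.disj, Subgroup.mem_bot, inv_mul_eq_one] at hm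
      rw [hm] at e'
      exact Prod.ext (Subtype.ext hm.symm) (Subtype.ext (mul_left_cancel e'))
    · rintro ⟨c, hc⟩
      obtain ⟨q, hq, k, hk, rfl⟩ := h.dec hc
      exact ⟨(⟨q, hq⟩, ⟨k, hk⟩), rfl⟩
  obtain ⟨eK⟩ := h.setting.alt
  rw [e, Nat.card_prod, h.setting.card_Q, Nat.card_congr eK.toEquiv, Nat.card_eq_fintype_card]
  rfl

end Cent

variable {z : G} {Q K : Subgroup G}

/-- The letters of the centraliser in the product with the model. -/
def pairs (v : ℕ → G) (x : ℕ) : G × Equiv.Perm (Fin 32) := (v x, v32 x)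

theorem model_relC : ∀ L ∈ relC, m32 L = m32 [] := by decide +kernel

theorem model_z : m32 zW ≠ m32 [] ∧ m32 [0, 0] = m32 [] := by decide +kernel

theorem inv_v32 : Inv v32 := by
  intro x
  by_cases hx : x < 4
  · have hiv : ∀ x < 4, iv x < 4 ∧ m32 [iv x, x] = m32 [] := by decide +kernel
    have h := m32_eq_iff.1 (hiv x hx).2
    simp [appProd] at h
    exact eq_inv_of_mul_eq_one_right h
  · have h1 : ∀ y, 4 ≤ y → v32 y = 1 := fun y hy => by
      have hn : n32 y = id32 := List.getD_eq_default _ _ (by simp [v32N]; omega)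
      ext i
      rw [← rep_n32 y i, hn, rep_id32 i]
    have h2 : 4 ≤ iv x := by
      rcases x with _ | _ | _ | _ | _ | _ | _ | x
      all_goals first
        | omega
        | decide
        | (rw [iv, List.getD_eq_default _ _ (by simp [invLetter])]; omega)
    rw [h1 x (by omega), h1 _ h2, inv_one]

theorem card_closure_pairs {v : ℕ → G} (hv : Inv v) (hr : ∀ L ∈ relC, appProd v L = 1) :
    Nat.card (Subgroup.closure (pairs v '' Set.Iio 4)) ≤ 1920 ∧
      Nat.card (Subgroup.closure (pairs v '' Set.Iio 4)) ≠ 0 := by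
  obtain ⟨wC, wK, iC, iK, nC, lC, nK, lK⟩ := wordsC
  have hp : Inv (pairs v) := fun x => Prod.ext (hv x) (inv_v32 x)
  have hrel : ∀ L ∈ relC, appProd (pairs v) L = 1 := fun L hL => by
    refine Prod.ext ?_ ?_
    · exact ((map_ev (MonoidHom.fst G (Equiv.Perm (Fin 32))) (pairs v) L)).trans (hr L hL)
    · exact ((map_ev (MonoidHom.snd G (Equiv.Perm (Fin 32))) (pairs v) L)).trans (m32_eq_iff.1 (model_relC L hL))
  have hK : ∀ L ∈ relK, L ∈ relC := fun L hL => List.mem_append_left _ hL
  let S1 := Subgroup.zpowers (pairs v 1)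
  have hS1 : Nat.card S1 ≤ 3 ∧ Nat.card S1 ≠ 0 := by
    have h3 : pairs v 1 ^ 3 = 1 := by
      rw [← hrel [1, 1, 1] (by simp [relC, relK])]
      simp [appProd, pow_succ]
    rw [Nat.card_zpowers]
    exact ⟨Nat.le_of_dvd (by norm_num) (orderOf_dvd_of_pow_eq_one h3),
      (orderOf_pos_iff.2 (isOfFinOrder_iff_pow_eq_one.2 ⟨3, by norm_num, h3⟩)).ne'⟩
  have h60 := natCard_closure_le certK_valid (by rw [nK]; norm_num) (pairs v) iK hp wK
    (fun L hL => hrel L (hK L hL)) S1
    (fun s hs => by rw [List.mem_singleton] at hs; subst hs; exact Subgroup.mem_zpowers _)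
    (Subgroup.zpowers_le.2 (Subgroup.subset_closure ⟨1, by rw [lK]; exact show 1 < 3 by norm_num, rfl⟩)) hS1
  rw [nK, lK] at h60
  have h32 := natCard_closure_le certC_valid (by rw [nC]; norm_num) (pairs v) iC hp wC hrel
    (Subgroup.closure (pairs v '' Set.Iio 3))
    (fun s hs => Subgroup.subset_closure ⟨s, by
      simp only [List.mem_cons, List.not_mem_nil, or_false] at hs
      rcases hs with rfl | rfl <;> simp, rfl⟩)
    (Subgroup.closure_mono (Set.image_mono (fun x (hx : x < 3) => show x < certC.nl by rw [lC]; omega))) h60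
  rw [nC, lC] at h32
  exact h32

namespace Coord

variable {t : Fin 5 → G} {φ : ↥K →* Equiv.Perm (Fin 5)} {a b : K} {u : G}

theorem cent_letters (h : Coord Q K z t φ a b u) (x : ℕ) : letK a b u x * z = z * letK a b u x := by
  rcases x with _ | _ | _ | _ | x
  · exact h.pts.setting.cent _ a.2
  · exact h.pts.setting.cent _ b.2
  · exact h.pts.setting.cent _ (b⁻¹).2
  · exact (h.pts.setting.extra.z_comm (h.near_invs h.near).1).symm
  · exact (one_mul z).trans (mul_one z).symm

theorem rels (h : Coord Q K z t φ a b u)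
    (hp : appProd (letK a b u) (uW 4 ++ uW 3 ++ uW 2 ++ uW 1 ++ uW 0) = 1) :
    ∀ L ∈ relC, appProd (letK a b u) L = 1 := by
  intro L hL
  obtain ⟨-, -, hfW, htW, -, -, f0, f3, -, -, -, -, -, hrelK⟩ := five_facts
  have hi := h.inv_letters
  simp only [relC, List.mem_append, List.mem_cons, List.not_mem_nil, or_false] at hL
  rcases hL with hL | rfl | rfl | rfl | rfl | rfl | rfl | rfl | rfl | rfl
  · obtain ⟨hlow, he⟩ := hrelK L hL
    rw [h.coe_ev hlow, show appProd (letA a b) L = 1 from h.pts.inj (by rw [h.phi_ev hlow, he, map_one])]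
    rfl
  · simp only [appProd, one_mul]
    exact (h.near_invs h.near).2.1
  · rw [ev_wcomm hi, ev_single]
    exact (h.comm_fix hfW f0 f3).symm
  · rw [ev_wcomm hi, ev_single]
    exact h.comm_tW.symm
  all_goals first
    | (rw [ev_wcomm hi, h.ev_zW, ev_single]; exact (h.cent_letters _).symm)
    | (rw [appProd_append, h.ev_zW]; exact h.pts.setting.extra.z_sq)
    | exact hp
    | skip
  have hz : (z : G)⁻¹ * z = 1 := inv_mul_cancel z
  rw [show uW 0 ++ uW 2 ++ uW 0 ++ uW 2 ++ winv zW = (uW 0 ++ uW 2 ++ (uW 0 ++ uW 2)) ++ winv zW by simp]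
  simp only [appProd_append, ev_winv hi]
  rw [show appProd (letK a b u) (uW 2) * appProd (letK a b u) (uW 0) *
    (appProd (letK a b u) (uW 2) * appProd (letK a b u) (uW 0)) = z from h.sq_prod (i := 2) (j := 0) (by decide)]
  rw [h.ev_zW, hz]

theorem ev_flatten (h : Coord Q K z t φ a b u) : ∀ l : List (Fin 5),
    appProd (letK a b u) (l.map fun i : Fin 5 => uW i.val).flatten ∈ Q ∧ ∀ i : Fin 5,
      appProd (letK a b u) (l.map fun j : Fin 5 => uW j.val).flatten * appProd (letK a b u) (uW i.val) =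
        appProd (letK a b u) (uW i.val) * appProd (letK a b u) (l.map fun j : Fin 5 => uW j.val).flatten *
          z ^ l.countP fun j => decide (i ≠ j)
  | [] => ⟨one_mem Q, fun i => by simp [appProd]⟩
  | j :: l => by
    obtain ⟨hq, hl⟩ := ev_flatten h l
    simp only [List.map_cons, List.flatten_cons, appProd_append]
    have hj := (h.uW_invs j).1
    refine ⟨mul_mem hq hj, fun i => ?_⟩
    have hl' := hl i
    generalize appProd (letK a b u) (List.map (fun i : Fin 5 => uW i.val) l).flatten = A at hq hl' ⊢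
    rw [List.countP_cons]
    set n := l.countP fun j => decide (i ≠ j)
    have hzj : Commute (z ^ n) (appProd (letK a b u) (uW j.val)) :=
      Commute.pow_left (h.pts.setting.extra.z_comm hj) n
    by_cases hij : i = j
    · subst hij
      rw [if_neg (by simp), add_zero]
      calc A * appProd (letK a b u) (uW i.val) * appProd (letK a b u) (uW i.val)
          = appProd (letK a b u) (uW i.val) * A * z ^ n * appProd (letK a b u) (uW i.val) := by rw [hl']
        _ = _ := by rw [mul_assoc (appProd _ _ * A), hzj.eq]; group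
    · rw [if_pos (by simpa using hij), pow_succ]
      calc A * appProd (letK a b u) (uW j.val) * appProd (letK a b u) (uW i.val)
          = A * (appProd (letK a b u) (uW i.val) * appProd (letK a b u) (uW j.val) * z) := by
            rw [mul_assoc, h.anti hij]
        _ = A * appProd (letK a b u) (uW i.val) * appProd (letK a b u) (uW j.val) * z := by group
        _ = appProd (letK a b u) (uW i.val) * A * (z ^ n * appProd (letK a b u) (uW j.val)) * z := by
            rw [hl']; group
        _ = _ := by rw [hzj.eq]; group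

theorem qW_spec (h : Coord Q K z t φ a b u) :
    (∀ L ∈ qW, appProd (letK a b u) L ∈ Q) ∧ ∀ q ∈ Q, ∃ L ∈ qW, appProd (letK a b u) L = q := by
  classical
  let w : Fin 32 → List ℕ := fun m => ((qIdx m).map fun i : Fin 5 => uW i.val).flatten ++ if (m : ℕ).testBit 4 then zW else []
  have hw : ∀ L, L ∈ qW ↔ ∃ m, w m = L := fun L => by
    rw [word_facts.1, List.mem_map]
    exact ⟨fun ⟨m, hm, e⟩ => ⟨⟨m, List.mem_range.1 hm⟩, e⟩, fun ⟨m, e⟩ => ⟨m, List.mem_range.2 m.2, e⟩⟩
  have hzQ := h.pts.setting.extra.z_mem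
  have hmem : ∀ m, appProd (letK a b u) (w m) ∈ Q := fun m => by
    simp only [w, appProd_append]
    refine mul_mem ?_ (h.ev_flatten _).1
    split
    · rw [h.ev_zW]; exact hzQ
    · exact one_mem Q
  have hinj : Function.Injective fun m => (⟨_, hmem m⟩ : Q) := fun m m' e => by
    have e' : appProd (letK a b u) (w m) = appProd (letK a b u) (w m') := congrArg Subtype.val e
    simp only [w, appProd_append] at e'
    obtain ⟨hA, hcA⟩ := h.ev_flatten (qIdx m)
    obtain ⟨hB, hcB⟩ := h.ev_flatten (qIdx m')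
    set A := appProd (letK a b u) (List.map (fun i : Fin 5 => uW i.val) (qIdx m)).flatten with hAd
    set B := appProd (letK a b u) (List.map (fun i : Fin 5 => uW i.val) (qIdx m')).flatten with hBd
    set E := appProd (letK a b u) (if (m : ℕ).testBit 4 then zW else []) with hEd
    set E' := appProd (letK a b u) (if (m' : ℕ).testBit 4 then zW else []) with hEd'
    have hcz : ∀ (c : Bool) (i : Fin 5), Commute (appProd (letK a b u) (if c then zW else []))
        (appProd (letK a b u) (uW i.val)) := fun c i => by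
      cases c
      · exact Commute.one_left _
      · rw [if_pos rfl, h.ev_zW]; exact h.pts.setting.extra.z_comm (h.uW_invs i).1
    have hpat : ∀ i : Fin 5, ((qIdx m).countP fun j => decide (i ≠ j)) % 2 =
        ((qIdx m').countP fun j => decide (i ≠ j)) % 2 := fun i => by
      have hEc : Commute E (appProd (letK a b u) (uW i.val)) := hcz _ i
      have hEc' : Commute E' (appProd (letK a b u) (uW i.val)) := hcz _ i
      have l1 : E * A * appProd (letK a b u) (uW i.val) =
          appProd (letK a b u) (uW i.val) * (E * A) * z ^ ((qIdx m).countP fun j => decide (i ≠ j)) := by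
        rw [mul_assoc E A, hcA i, ← mul_assoc E, ← mul_assoc E, hEc.eq]; group
      have l2 : E' * B * appProd (letK a b u) (uW i.val) =
          appProd (letK a b u) (uW i.val) * (E' * B) * z ^ ((qIdx m').countP fun j => decide (i ≠ j)) := by
        rw [mul_assoc E' B, hcB i, ← mul_assoc E', ← mul_assoc E', hEc'.eq]; group
      rw [e'] at l1
      have e3 := mul_left_cancel (l1.symm.trans l2)
      have hz2 : ∀ n : ℕ, z ^ n = z ^ (n % 2) := fun n => by
        conv_lhs => rw [← Nat.div_add_mod n 2, pow_add, pow_mul, pow_two, h.pts.setting.extra.z_sq, one_pow, one_mul]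
      rw [hz2, hz2 (List.countP _ (qIdx m'))] at e3
      have hne : z ≠ 1 := h.pts.setting.extra.z_ne
      rcases Nat.mod_two_eq_zero_or_one ((qIdx m).countP fun j => decide (i ≠ j)) with a1 | a1 <;>
        rcases Nat.mod_two_eq_zero_or_one ((qIdx m').countP fun j => decide (i ≠ j)) with a2 | a2 <;>
        rw [a1, a2] at e3 <;> rw [a1, a2] <;>
        first
          | rfl
          | (rw [pow_zero, pow_one] at e3; exact absurd e3.symm hne)
          | (rw [pow_one, pow_zero] at e3; exact absurd e3 hne)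
    obtain ⟨hidx, hbit⟩ := pattern_inj m m.2 m' m'.2 hpat
    refine Fin.ext (hbit ?_)
    have hAB : A = B := by rw [hAd, hBd, hidx]
    rw [hAB] at e'
    have e5 := mul_right_cancel e'
    have hne : z ≠ 1 := h.pts.setting.extra.z_ne
    rw [hEd, hEd'] at e5
    cases hb : (m : ℕ).testBit 4 <;> cases hb' : (m' : ℕ).testBit 4 <;>
      simp [hb, hb', h.ev_zW, appProd] at e5 ⊢ <;> exact absurd e5 (by first | exact hne | exact hne.symm)
  have hbij : Function.Bijective fun m => (⟨_, hmem m⟩ : Q) :=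
    (Nat.bijective_iff_injective_and_card _).2 ⟨hinj, by rw [Nat.card_fin, h.pts.setting.card_Q]⟩
  refine ⟨fun L hL => ?_, fun q hq => ?_⟩
  · obtain ⟨m, rfl⟩ := (hw L).1 hL; exact hmem m
  · obtain ⟨m, e⟩ := hbij.2 ⟨q, hq⟩
    exact ⟨w m, (hw _).2 ⟨m, rfl⟩, congrArg Subtype.val e⟩

theorem cover (h : Cent z Q K) (hc : Coord Q K z t φ a b u) {g : G} (hg : g * z = z * g) :
    ∃ e ∈ elems, appProd (letK a b u) e.1 = g := by
  obtain ⟨q, hq, k, hk, rfl⟩ := h.dec (Subgroup.mem_centralizer_singleton_iff.2 hg)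
  obtain ⟨Lq, hLq, eq⟩ := (qW_spec hc).2 q hq
  obtain ⟨Lk, hLk, ek⟩ := kW_cover (φ ⟨k, hk⟩)
    (Equiv.Perm.mem_alternatingGroup.1 (by rw [← hc.pts.range]; exact ⟨_, rfl⟩))
  have hlow := five_facts.2.1 Lk hLk
  have ek' : appProd (letK a b u) Lk = k := by
    rw [hc.coe_ev hlow, show appProd (letA a b) Lk = ⟨k, hk⟩ from hc.pts.inj (by rw [hc.phi_ev hlow, ek])]
  obtain ⟨i, hi, rfl⟩ := List.mem_iff_getElem.1 hLq
  obtain ⟨j, hj, rfl⟩ := List.mem_iff_getElem.1 hLk
  have hi' : i < qV.length := by rw [← values_ok.1, List.length_map]; exact hi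
  have hj' : j < kV.length := by rw [← values_ok.2, List.length_map]; exact hj
  refine ⟨(kW[j] ++ qW[i], CfsgLib.SmallGroups.PermChain.comp 32 qV[i] kV[j]), ?_, by
    show appProd (letK a b u) (kW[j] ++ qW[i]) = _
    rw [appProd_append]
    exact congrArg₂ (· * ·) eq ek'⟩
  refine List.mem_flatMap.2 ⟨(qW[i], qV[i]), ?_, List.mem_map.2 ⟨(kW[j], kV[j]), ?_, rfl⟩⟩
  · exact List.mem_iff_getElem.2 ⟨i, by simp [hi, hi'], List.getElem_zip⟩
  · exact List.mem_iff_getElem.2 ⟨j, by simp [hj, hj'], List.getElem_zip⟩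

end Coord

/-- Frames exist. -/
theorem exists_frame' (h : Cent z Q K) : ∃ v, Frame Q z v := by
  obtain ⟨t, φ, a, b, u, hc, hp⟩ := exists_coord h.setting
  set v := letK a b u
  have hinv : Inv v := hc.inv_letters
  have hrel := hc.rels hp
  set D := Subgroup.closure (pairs v '' Set.Iio 4)
  obtain ⟨hD, -⟩ := card_closure_pairs hinv hrel
  change Nat.card D ≤ 1920 at hD
  have hmem : ∀ L, Low L → appProd (pairs v) L ∈ D := fun L hL =>
    ev_mem fun x hx => Subgroup.subset_closure ⟨x, hL x hx, rfl⟩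
  have hfst : ∀ L, (appProd (pairs v) L).1 = appProd v L := fun L =>
    map_ev (MonoidHom.fst G (Equiv.Perm (Fin 32))) (pairs v) L
  have hsnd : ∀ L, (appProd (pairs v) L).2 = appProd v32 L := fun L =>
    map_ev (MonoidHom.snd G (Equiv.Perm (Fin 32))) (pairs v) L
  set C := Subgroup.centralizer ({z} : Set G)
  let π : ↥D →* G := (MonoidHom.fst G (Equiv.Perm (Fin 32))).comp D.subtype
  have hπC : ∀ c ∈ C, ∃ d : D, π d = c := fun c hc' => by
    obtain ⟨e, he, e'⟩ := Coord.cover h hc (Subgroup.mem_centralizer_singleton_iff.1 hc')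
    exact ⟨⟨_, hmem e.1 (word_facts.2.1 e he)⟩, (hfst e.1).trans e'⟩
  have hπinj : Function.Injective π := by
    haveI : Finite D := inferInstance
    have hr : C ≤ π.range := fun c hc' => by obtain ⟨d, hd⟩ := hπC c hc'; exact ⟨d, hd⟩
    have h1 : Nat.card C ≤ Nat.card π.range := Subgroup.card_le_of_le hr
    rw [h.card_C] at h1
    have h2 : Nat.card π.range ≤ Nat.card D := Nat.card_le_card_of_surjective _ π.rangeRestrict_surjective
    have hb := (Nat.bijective_iff_surjective_and_card π.rangeRestrict).2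
      ⟨π.rangeRestrict_surjective, le_antisymm (by omega) h2⟩
    intro x y e
    exact hb.1 (Subtype.ext e)
  have hker : ∀ d : D, (d : G × Equiv.Perm (Fin 32)).2 = 1 → d = 1 := by
    by_contra hne
    push Not at hne
    obtain ⟨d₀, hd₀, hd₀1⟩ := hne
    let N : Subgroup D := ((MonoidHom.snd G (Equiv.Perm (Fin 32))).comp D.subtype).ker
    have hNn : N.Normal := MonoidHom.normal_ker _
    let M : Subgroup G := N.map π
    have hMn : ∀ c ∈ C, ∀ m ∈ M, c * m * c⁻¹ ∈ M := fun c hc' m hm => by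
      obtain ⟨n, hn, rfl⟩ := hm
      obtain ⟨d, rfl⟩ := hπC c hc'
      exact ⟨d * n * d⁻¹, hNn.conj_mem n hn d, by simp⟩
    have hMC : ∀ m ∈ M, m ∈ C := by
      rintro _ ⟨n, -, rfl⟩
      have : (n : G × Equiv.Perm (Fin 32)) ∈ D := n.2
      have hle : D ≤ C.comap (MonoidHom.fst G (Equiv.Perm (Fin 32))) := by
        rw [Subgroup.closure_le]
        rintro _ ⟨x, -, rfl⟩
        exact Subgroup.mem_centralizer_singleton_iff.2 (hc.cent_letters x)
      exact hle n.2
    have hzM : z ∈ M := by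
      -- a nontrivial normal subgroup of the centraliser contains `z`
      have hQC := h.Q_le
      have hin : ∀ m ∈ M, ∀ q ∈ Q, m * q * m⁻¹ * q⁻¹ ∈ M ∧ m * q * m⁻¹ * q⁻¹ ∈ Q := fun m hm q hq => by
        refine ⟨?_, mul_mem (h.norm (hMC m hm) hq) (inv_mem hq)⟩
        rw [show m * q * m⁻¹ * q⁻¹ = m * (q * m⁻¹ * q⁻¹) by group]
        exact mul_mem hm (hMn q (hQC hq) _ (inv_mem hm))
      obtain ⟨q, hqM, hqQ, hq1⟩ : ∃ q ∈ M, q ∈ Q ∧ q ≠ 1 := by
        by_contra hcon
        push Not at hcon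
        have hm₀ : π d₀ ∈ M := ⟨d₀, hd₀, rfl⟩
        have hfix : ∀ q ∈ Q, π d₀ * q * (π d₀)⁻¹ = q := fun q hq => by
          obtain ⟨a1, a2⟩ := hin _ hm₀ q hq
          exact mul_inv_eq_one.1 (hcon _ a1 a2)
        have hQ0 := h.cent_le _ (hMC _ hm₀) hfix
        exact hd₀1 (hπinj ((hcon _ hm₀ hQ0).trans (map_one π).symm))
      by_cases hcq : ∀ q' ∈ Q, q * q' = q' * q
      · rcases h.setting.extra.mem_center_cases hqQ hcq with e | e
        · exact absurd e hq1
        · exact e ▸ hqM
      · push Not at hcq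
        obtain ⟨q', hq', hne'⟩ := hcq
        rcases h.setting.extra.conj_cases hq' hqQ with e | e
        · exact absurd (mul_inv_eq_iff_eq_mul.1 e) hne'
        · have h1 := (hin q hqM q' hq').1
          rwa [e, mul_assoc q', h.setting.extra.z_comm (inv_mem hq'), ← mul_assoc, mul_inv_cancel, one_mul] at h1
    obtain ⟨n, hn, hnz⟩ := hzM
    have hzw : (⟨_, hmem zW word_facts.2.2.1⟩ : D) = n := hπinj (((hfst zW).trans hc.ev_zW).trans hnz.symm)
    refine model_z.1 (m32_eq_iff.2 ?_)
    rw [← hsnd zW]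
    have := MonoidHom.mem_ker.1 hn
    rw [← hzw] at this
    exact this
  refine ⟨v, ⟨hinv, hc.cent_letters, hc.ev_zW, (Coord.qW_spec hc).1, fun L L' hL hL' => ?_,
    fun g hg => Coord.cover h hc hg⟩⟩
  rw [m32_eq_iff, ← hfst, ← hfst, ← hsnd, ← hsnd]
  constructor
  · intro e
    exact congrArg (fun d : D => (d : G × Equiv.Perm (Fin 32)).2)
      (hπinj (a₁ := ⟨_, hmem L hL⟩) (a₂ := ⟨_, hmem L' hL'⟩) e)
  · intro e
    have := hker (⟨_, hmem L hL⟩⁻¹ * ⟨_, hmem L' hL'⟩)
      (by show ((appProd (pairs v) L)⁻¹ * appProd (pairs v) L').2 = 1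
          rw [Prod.snd_mul, Prod.snd_inv, e, inv_mul_cancel])
    rw [inv_mul_eq_one] at this
    exact congrArg (fun d : D => (d : G × Equiv.Perm (Fin 32)).1) this

end CfsgLib.Characterizations.HallJanko.Uniq
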