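import Cfsg.Agent.Lib.Characterizations.HallJanko.Uniq.Normal

/-!
# Generators satisfying the relations
-/

set_option autoImplicit false
set_option maxRecDepth 100000
set_option linter.style.haveILetI false
set_option linter.unusedSectionVars false

namespace CfsgLib.Characterizations.HallJanko.Uniq

open CfsgLib.Sporadic.CosetCert (appProd appProd_append)
open CfsgLib.SmallGroups.PermChain (comp)
open CfsgLib.Characterizations.HallJankoCount
open CfsgLib.Involution.Dihedral
open Data

variable {G : Type*} [Group G] [Finite G] {z t : G} {Q K P B : Subgroup G}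

/-- An adapted frame with the elements of order three and two in `B`. -/
structure Gen (z : G) (Q P B : Subgroup G) (v : ℕ → G) (c i : G) : Prop where
  frame : Frame Q z v
  uB : appProd v [3] ∈ B
  tP : appProd v tW ∈ P
  fB : ∀ b ∈ B, appProd v fW * b = b * appProd v fW
  cB : c ∈ B
  iB : i ∈ B
  c3 : c * c * c = 1
  cz : c * z * c⁻¹ = appProd v [3]
  cu : c * appProd v [3] * c⁻¹ = appProd v [3] * z
  ii : i * i = 1
  iz : i ≠ z
  ic : (i * c) ^ 2 = 1
  ic' : (i * c⁻¹) ^ 2 = 1
  iz5 : (i * z) ^ 5 = 1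
  iu5 : (i * appProd v [3]) ^ 5 = 1
  icz : (i * c * z) ^ 3 = 1
  icu : (i * c * appProd v [3]) ^ 5 = 1

theorem exists_gen (h : JData z t Q K P B) : ∃ v c i, Gen z Q P B v c i := by
  classical
  obtain ⟨v, f, hF, hf, hfv, hu, ht⟩ := exists_frame_t h
  obtain ⟨e⟩ := h.altB
  set u := appProd v [3] with hud
  have huu : u * u = 1 := by
    have := hF.eq_of [3, 3] [] (by decide) (by decide) model_words.2.2.2.2.2.2.2.2.2.2.2.2.2.2.2.2.2.2.2.1
    rwa [show ([3, 3] : List ℕ) = [3] ++ [3] from rfl, appProd_append] at this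
  have hu1 : u ≠ 1 := fun e0 => model_words.2.2.2.2.2.2.2.2.2.2.2.2.2.2.2.2.2.2.2.2.2.1
    ((hF.eqv [3] [] (by decide) (by decide)).1 e0)
  have huz : u ≠ z := fun e0 => model_words.2.2.2.2.2.2.2.2.2.2.2.2.2.2.2.2.2.2.2.2.2.2.1
    ((hF.eqv [3] zW (by decide) (by decide)).1 (e0.trans hF.hz.symm))
  have hucz : z * u = u * z := (hF.cent 3).symm |> fun e0 => by rw [hud, ev_single]; exact e0
  let ψ : ↥B →* Equiv.Perm (Fin 5) := toPerm e
  have hψ : Function.Injective ψ := toPerm_injective e
  let zb : B := ⟨z, h.split.zB⟩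
  let ub : B := ⟨u, hu⟩
  obtain ⟨Cp, hCs, hCz, Ip, hIs, hB⟩ := search_B (ψ zb) (sign_toPerm e _)
    (by rw [← map_mul, show zb * zb = 1 from Subtype.ext h.m.hj.setting.extra.z_sq, map_one])
    (toPerm_ne_one e fun e0 => h.m.hj.setting.extra.z_ne (congrArg Subtype.val e0))
    (ψ ub) (sign_toPerm e _) (by rw [← map_mul, show ub * ub = 1 from Subtype.ext huu, map_one])
    (toPerm_ne_one e fun e0 => hu1 (congrArg Subtype.val e0))
    (fun e0 => huz (congrArg Subtype.val (hψ e0)))
    (by rw [← map_mul, ← map_mul, show zb * ub = ub * zb from Subtype.ext hucz])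
  obtain ⟨c, rfl⟩ := exists_toPerm e hCs
  obtain ⟨i, rfl⟩ := exists_toPerm e hIs
  obtain ⟨b1, b2, b3, b4, b5, b6, b7, b8, b9, b10, b11⟩ := hB
  have tr : ∀ x y : B, ψ x = ψ y → (x : G) = y := fun x y e0 => congrArg Subtype.val (hψ e0)
  refine ⟨v, c, i, ⟨hF, hu, ht, fun b hb => by rw [hfv]; exact hf.comm b hb, c.2, i.2, ?_, ?_, ?_, ?_, ?_, ?_, ?_,
    ?_, ?_, ?_, ?_⟩⟩
  · exact tr (c * c * c) 1 (by simpa using b1)
  · exact tr (c * zb * c⁻¹) ub (by simpa using b2)
  · exact tr (c * ub * c⁻¹) (ub * zb) (by simpa using b3)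
  · exact tr (i * i) 1 (by simpa using b4)
  · exact fun e0 => b5 (congrArg ψ (Subtype.ext e0 : i = zb))
  · exact tr ((i * c) ^ 2) 1 (by simpa using b6)
  · exact tr ((i * c⁻¹) ^ 2) 1 (by simpa using b7)
  · exact tr ((i * zb) ^ 5) 1 (by simpa using b8)
  · exact tr ((i * ub) ^ 5) 1 (by simpa using b9)
  · exact tr ((i * c * zb) ^ 3) 1 (by simpa using b10)
  · exact tr ((i * c * ub) ^ 5) 1 (by simpa using b11)

namespace Gen

variable {v : ℕ → G} {c i : G}

theorem comm_t (hg : Gen z Q P B v c i) (h : JData z t Q K P B) {b : G} (hb : b ∈ B) :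
    appProd v tW * b = b * appProd v tW := h.split.comm _ hg.tP b hb

theorem exists_comm_a (h : JData z t Q K P B) (hg : Gen z Q P B v c i) :
    ∃ v', Gen z Q P B v' c i ∧ v' 0 * i = i * v' 0 := by
  classical
  have hF := hg.frame
  have hzB := h.split.zB
  have hzz : z * z = 1 := h.m.hj.setting.extra.z_sq
  have hzi : z⁻¹ = z := h.m.hj.setting.extra.inv_z
  set r := i * z with hr
  have hrB : r ∈ B := mul_mem hg.iB hzB
  have hr1 : r ≠ 1 := fun e => hg.iz (mul_right_cancel (e.trans hzz.symm))
  haveI : Fact (Nat.Prime 5) := ⟨by norm_num⟩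
  have hro : orderOf r = 5 := orderOf_eq_prime hg.iz5 hr1
  obtain ⟨-, -, π, hπs, hπ, huniq⟩ := h.exists_pi hrB hro
  let C := Subgroup.centralizer ({r} : Set G)
  set τ := appProd v tW with hτ
  set f := appProd v fW with hfd
  have hτC : τ ∈ C := Subgroup.mem_centralizer_singleton_iff.2 (hg.comm_t h hrB)
  have hfC : f ∈ C := Subgroup.mem_centralizer_singleton_iff.2 (hg.fB r hrB)
  have hzrz : z * r * z = r⁻¹ := by
    rw [hr, mul_inv_rev, hzi, inv_eq_of_mul_eq_one_right hg.ii]
    calc z * (i * z) * z = z * i * (z * z) := by group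
      _ = z * i := by rw [hzz, mul_one]
  have hrpow : ∀ n : ℤ, z * r ^ n * z = r ^ (-n) := fun n => by
    have e1 : z * r * z⁻¹ = r⁻¹ := by rw [hzi]; exact hzrz
    calc z * r ^ n * z = (z * r * z⁻¹) ^ n := by rw [_root_.conj_zpow, hzi]
      _ = r ^ (-n) := by rw [e1, inv_zpow']
  -- elements of the cyclic group commuting with `z` are trivial
  have hcy : ∀ x : G, x ∈ Subgroup.zpowers r → x * z = z * x → x = 1 := fun x hx hxz => by
    obtain ⟨n, rfl⟩ := hx
    have e1 : r ^ (-n) = r ^ n := by
      rw [← hrpow n]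
      show z * r ^ n * z = r ^ n
      rw [← hxz, mul_assoc, hzz, mul_one]
    have e2 : r ^ (2 * n) = 1 := by
      rw [two_mul, zpow_add]
      conv_lhs => arg 1; rw [← e1]
      rw [← zpow_add, neg_add_cancel, zpow_zero]
    rw [← orderOf_dvd_iff_zpow_eq_one, hro] at e2 ⊢
    omega
  have hγC : ∀ x ∈ C, z * x * z ∈ C := fun x hx => by
    refine Subgroup.mem_centralizer_singleton_iff.2 ?_
    have hx' : x * r⁻¹ = r⁻¹ * x := (show Commute x r from Subgroup.mem_centralizer_singleton_iff.1 hx).inv_right.eq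
    calc z * x * z * r = z * x * (z * r * z) * z := by
          rw [show z * x * (z * r * z) * z = z * x * z * r * (z * z) by group, hzz, mul_one]
      _ = z * (x * r⁻¹) * z := by rw [hzrz]; group
      _ = z * r⁻¹ * (z * z) * x * z := by rw [hx', hzz]; group
      _ = z * r⁻¹ * z * (z * x * z) := by group
      _ = r * (z * x * z) := by
        have := hrpow (-1)
        rw [zpow_neg_one, neg_neg, zpow_one] at this
        rw [this]
  let A5 := alternatingGroup (Fin 5)
  have hπ1 : ∀ (x : G) (hx : x ∈ C), π ⟨x, hx⟩ = 1 → x * z = z * x → x = 1 := fun x hx e hxz =>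
    hcy x ((hπ ⟨x, hx⟩).1 e) hxz
  have hτz : τ * z = z * τ := hg.comm_t h hzB
  have hfz : f * z = z * f := hg.fB z hzB
  have hττ : τ * τ = 1 := by
    have := hF.eq_of (tW ++ tW) [] (by decide) (by decide) model_words.2.2.2.2.2.2.2.2.2.2.2.2.2.2.2.1
    rwa [appProd_append] at this
  have hτ1 : τ ≠ 1 := fun e0 => model_words.2.2.2.2.2.2.2.2.2.2.2.2.2.2.2.2.1
    ((hF.eqv tW [] (by decide) (by decide)).1 e0)
  have hf3 : f * f * f = 1 := by
    have := hF.eq_of (fW ++ fW ++ fW) [] (by decide) (by decide) model_words.2.2.2.2.2.2.2.2.2.2.2.2.2.1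
    simpa [appProd_append, appProd, mul_assoc] using this
  have hf1 : f ≠ 1 := fun e0 => model_words.2.2.2.2.2.2.2.2.2.2.2.2.2.2.1
    ((hF.eqv fW [] (by decide) (by decide)).1 e0)
  have htf : (τ * f) ^ 3 = 1 := by
    have := hF.eq_of ((List.replicate 3 (fW ++ tW)).flatten) [] (by decide) (by decide)
      model_words.2.2.2.2.2.2.2.2.2.2.2.2.2.2.2.2.2.1
    rwa [ev_replicate, appProd_append] at this
  let τc : C := ⟨τ, hτC⟩
  let fc : C := ⟨f, hfC⟩
  have hval : ∀ x : A5, Equiv.Perm.sign (x : Equiv.Perm (Fin 5)) = 1 := fun x => Equiv.Perm.mem_alternatingGroup.1 x.2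
  obtain ⟨Up, hUs, hU, huni⟩ := search_A (π τc : Equiv.Perm (Fin 5)) (hval _)
    (congrArg Subtype.val (show π τc * π τc = 1 by rw [← map_mul, show τc * τc = 1 from Subtype.ext hττ, map_one]))
    (fun e0 => hτ1 (hπ1 τ hτC (Subtype.ext e0) hτz))
    (π fc : Equiv.Perm (Fin 5)) (hval _)
    (congrArg Subtype.val (show π fc * π fc * π fc = 1 by
      rw [← map_mul, ← map_mul, show fc * fc * fc = 1 from Subtype.ext hf3, map_one]))
    (fun e0 => hf1 (hπ1 f hfC (Subtype.ext e0) hfz))
    (congrArg Subtype.val (show (π τc * π fc) ^ 3 = 1 by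
      rw [← map_mul, ← map_pow, show (τc * fc) ^ 3 = 1 from Subtype.ext htf, map_one]))
  let U : A5 := ⟨Up, Equiv.Perm.mem_alternatingGroup.2 hUs⟩
  obtain ⟨v0, hv0⟩ := hπs U
  obtain ⟨hU2, hU1, hUt, hUf, hUft⟩ := hU
  have hU2' : U * U = 1 := Subtype.ext hU2
  have hv2 : ∃ m : ℤ, r ^ m = ((v0 * v0 : C) : G) := by
    have : π (v0 * v0) = 1 := by rw [map_mul, hv0, hU2']
    exact (hπ _).1 this
  set w : C := v0 ^ 5 with hw
  have hww : w * w = 1 := by
    obtain ⟨m, hm⟩ := hv2
    refine Subtype.ext ?_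
    rw [hw, ← pow_add, show 5 + 5 = 2 * 5 from rfl, pow_mul, pow_two, Subgroup.coe_pow, ← hm]
    rw [← zpow_natCast, ← zpow_mul, mul_comm, zpow_mul, zpow_natCast, hg.iz5, one_zpow]
    rfl
  have hwU : π w = U := by
    rw [hw, map_pow, hv0]
    calc U ^ 5 = U * U * (U * U) * U := by simp [pow_succ, mul_assoc]
      _ = U := by rw [hU2', one_mul, one_mul]
  let γ : C → C := fun x => ⟨z * x * z, hγC x x.2⟩
  have hγm : ∀ x y : C, γ (x * y) = γ x * γ y := fun x y => Subtype.ext (by
    show z * ((x : G) * y) * z = z * x * z * (z * y * z)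
    calc z * ((x : G) * y) * z = z * x * (z * z) * y * z := by rw [hzz, mul_one]; group
      _ = _ := by group)
  let γh : C →* C := MonoidHom.mk' γ hγm
  have hγτ : γ τc = τc := Subtype.ext (by
    show z * τ * z = τ
    rw [← hτz, mul_assoc, hzz, mul_one])
  have hγf : γ fc = fc := Subtype.ext (by
    show z * f * z = f
    rw [← hfz, mul_assoc, hzz, mul_one])
  have hker : ∀ x : C, π x = 1 → π (γ x) = 1 := fun x hx => by
    obtain ⟨m, hm⟩ := (hπ x).1 hx
    refine (hπ _).2 ⟨-m, ?_⟩
    show r ^ (-m) = z * x * z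
    rw [← hm]
    exact (hrpow m).symm
  have hγw : γ w = w := by
    have hpull : ∀ (g : C) (n : ℕ), (π g) ^ n = 1 → (π (γ g)) ^ n = 1 := fun g n e0 => by
      rw [← map_pow] at e0 ⊢
      have := hker _ e0
      rwa [show γ (g ^ n) = (γ g) ^ n from map_pow γh g n] at this
    have hcond : condA (π τc : Equiv.Perm (Fin 5)) (π fc) (π (γ w)) := by
      refine ⟨?_, ?_, ?_, ?_, ?_⟩
      · exact congrArg Subtype.val (show π (γ w) * π (γ w) = 1 by
          rw [← map_mul, ← hγm, hww, show γ 1 = 1 from map_one γh, map_one])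
      · intro e0
        have := hker _ (Subtype.ext e0 : π (γ w) = 1)
        rw [show γ (γ w) = w from Subtype.ext (by
          show z * (z * w * z) * z = w
          calc z * (z * (w : G) * z) * z = z * z * w * (z * z) := by group
            _ = w := by rw [hzz, one_mul, mul_one]), hwU] at this
        exact hU1 (congrArg Subtype.val this)
      · have h5 : (π (τc * w)) ^ 5 = 1 := Subtype.ext (by rw [map_mul, hwU]; exact hUt)
        have := hpull _ 5 h5
        rw [hγm, hγτ, map_mul] at this
        exact congrArg Subtype.val this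
      · have h5 : (π (fc * w)) ^ 3 = 1 := Subtype.ext (by rw [map_mul, hwU]; exact hUf)
        have := hpull _ 3 h5
        rw [hγm, hγf, map_mul] at this
        exact congrArg Subtype.val this
      · have h5 : (π (fc * τc * w)) ^ 5 = 1 := Subtype.ext (by rw [map_mul, map_mul, hwU]; exact hUft)
        have := hpull _ 5 h5
        rw [hγm, hγm, hγτ, hγf, map_mul, map_mul] at this
        exact congrArg Subtype.val this
    have hUeq : π (γ w) = π w := by
      rw [hwU]
      exact Subtype.ext (huni _ (hval _) hcond)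
    exact huniq 2 (by norm_num) _ _ (by rw [pow_two, ← hγm, hww]; exact map_one γh) (by rw [pow_two, hww]) hUeq
  have hwz : (w : G) * z = z * w := by
    have e0 : z * (w : G) * z = w := congrArg Subtype.val hγw
    calc (w : G) * z = z * w * z * z := by rw [e0]
      _ = z * w := by rw [mul_assoc, hzz, mul_one]
  obtain ⟨e, he, e', ev, hlow⟩ := hF.mem_elems hwz
  have hfix : ∀ (x : C) (n : ℕ), (π x) ^ n = 1 → (x : G) * z = z * x → (x : G) ^ n = 1 := fun x n e0 hxz => by
    rw [← map_pow] at e0
    have := hπ1 _ (x ^ n).2 e0 (by rw [Subgroup.coe_pow]; exact ((show Commute (x : G) z from hxz).pow_left n).eq)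
    exact this
  have hww' : (w : G) * w = 1 := congrArg Subtype.val hww
  have hw1 : (w : G) ≠ 1 := fun e0 => hU1 (congrArg Subtype.val (show U = 1 by
    rw [← hwU, show w = 1 from Subtype.ext e0, map_one]))
  have hcond : condV e.2 = true := by
    have htW : Low tW := word_facts.2.2.2.2.2.2.1
    have hfW : Low fW := word_facts.2.2.2.2.2.1
    have hrep : ∀ (n : ℕ) (L : List ℕ), (List.replicate n (m32 L)).foldr (comp 32) id32 =
        m32 (List.replicate n L).flatten := fun n L => by
      induction n with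
      | zero => rfl
      | succ n ih =>
        rw [List.replicate_succ, List.foldr_cons, ih, ← m32_append, ← List.flatten_concat, ← List.replicate_succ',
          List.replicate_succ]
    simp only [condV, Bool.and_eq_true, beq_iff_eq, Bool.not_eq_true', beq_eq_false_iff_ne]
    rw [ev, ← const_ok.2.2.1, ← const_ok.2.2.2.1]
    simp only [← m32_append, hrep]
    have hflat : ∀ {L : List ℕ} (n : ℕ), Low L → Low (List.replicate n L).flatten := fun {L} n hL x hx => by
      obtain ⟨l, hl, hx⟩ := List.mem_flatten.1 hx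
      exact hL x ((List.eq_of_mem_replicate hl) ▸ hx)
    refine ⟨⟨⟨⟨?_, ?_⟩, ?_⟩, ?_⟩, ?_⟩
    · exact (hF.eqv _ [] (low_append hlow hlow) (by decide)).1 (by rw [appProd_append, e']; exact hww')
    · exact fun e0 => hw1 (e' ▸ (hF.eqv e.1 [] hlow (by decide)).2 e0)
    · refine (hF.eqv _ [] (hflat _ (low_append hlow htW)) (by decide)).1 ?_
      rw [ev_replicate, appProd_append, e']
      exact hfix (τc * w) 5 (Subtype.ext (by rw [map_mul, hwU]; exact hUt))
        ((show Commute τ z from hτz).mul_left hwz).eq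
    · refine (hF.eqv _ [] (hflat _ (low_append hlow hfW)) (by decide)).1 ?_
      rw [ev_replicate, appProd_append, e']
      exact hfix (fc * w) 3 (Subtype.ext (by rw [map_mul, hwU]; exact hUf))
        ((show Commute f z from hfz).mul_left hwz).eq
    · refine (hF.eqv _ [] (hflat _ (low_append (low_append hlow htW) hfW)) (by decide)).1 ?_
      rw [ev_replicate, appProd_append, appProd_append, e', ← mul_assoc]
      exact hfix (fc * τc * w) 5 (Subtype.ext (by rw [map_mul, map_mul, hwU]; exact hUft))
        (((show Commute f z from hfz).mul_left hτz).mul_left hwz).eq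
  have hs := List.all_eq_true.1 search_V e he
  rw [hcond, Bool.not_true, Bool.false_or, List.contains_iff_mem, ev] at hs
  have hwi : (w : G) * i = i * w := by
    have hwr : Commute (w : G) r := Subgroup.mem_centralizer_singleton_iff.1 w.2
    have := hwr.mul_right (show Commute (w : G) z from hwz)
    rwa [hr, mul_assoc, hzz, mul_one] at this
  simp only [List.mem_cons, List.not_mem_nil, or_false] at hs
  rcases hs with e0 | e0 <;> have e1 := (hF.eqv e.1 _ hlow (by decide)).2 e0 <;> rw [e'] at e1
  · exact ⟨v, hg, by rw [ev_single] at e1; rw [← e1]; exact hwi⟩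
  · set u := appProd v [3] with hud
    have hgz : u * z = z * u := by rw [hud, ev_single]; exact hF.cent 3
    have hF' := hF.conj hgz fun q hq => h.m.hj.norm (Subgroup.mem_centralizer_singleton_iff.2 hgz) hq
    have hconj : ∀ {L L' : List ℕ}, Low L → m32 (wconj [3] L) = m32 L' → Low L' →
        appProd (fun x => u * v x * u⁻¹) L = appProd v L' := fun {L L'} hL e0 hL' => by
      rw [ev_conjAll, ← ev_wconj hF.inv]
      exact hF.eq_of _ _ (low_wconj (by decide) hL) hL' e0
    have hfix3 : m32 (wconj [3] [3]) = m32 [3] ∧ m32 (wconj [3] tW) = m32 tW ∧ m32 (wconj [3] fW) = m32 fW ∧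
        m32 (wconj [3] [0]) = m32 [3, 0, 3] := by decide +kernel
    have ht' := hconj word_facts.2.2.2.2.2.2.1 hfix3.2.1 word_facts.2.2.2.2.2.2.1
    have hf' := hconj word_facts.2.2.2.2.2.1 hfix3.2.2.1 word_facts.2.2.2.2.2.1
    have hu' := hconj (L := [3]) (by decide) hfix3.1 (by decide)
    refine ⟨fun x => u * v x * u⁻¹, { hg with
      frame := hF'
      uB := by rw [hu']; exact hg.uB
      tP := by rw [ht']; exact hg.tP
      fB := fun b hb => by rw [hf']; exact hg.fB b hb
      cz := by rw [hu']; exact hg.cz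
      cu := by rw [hu']; exact hg.cu
      iu5 := by rw [hu']; exact hg.iu5
      icu := by rw [hu']; exact hg.icu }, ?_⟩
    have ha := hconj (L := [0]) (by decide) hfix3.2.2.2 (by decide)
    rw [ev_single] at ha
    show u * v 0 * u⁻¹ * i = i * (u * v 0 * u⁻¹)
    rw [ha, ← e1]
    exact hwi

end Gen

/-- The letters extended by `c` and `i`. -/
def extend (v : ℕ → G) (c i : G) (x : ℕ) : G :=
  if x < 4 then v x else if x = 4 then c else if x = 5 then c⁻¹ else if x = 6 then i else 1

theorem inv_extend {v : ℕ → G} {c i : G} (hv : Inv v) (hi : i * i = 1) : Inv (extend v c i) := by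
  intro x
  rcases x with _ | _ | _ | _ | _ | _ | _ | x
  all_goals first
    | (show v _ = (v _)⁻¹; exact hv _)
    | (show c⁻¹ = c⁻¹; rfl)
    | (show c = c⁻¹⁻¹; exact (inv_inv c).symm)
    | (show i = i⁻¹; exact (inv_eq_of_mul_eq_one_right hi).symm)
    | (have h1 : iv (x + 7) = x + 7 := List.getD_eq_default _ _ (by simp [invLetter])
       show extend v c i (iv (x + 7)) = (extend v c i (x + 7))⁻¹
       rw [h1, extend, if_neg (by omega), if_neg (by omega), if_neg (by omega), if_neg (by omega), inv_one])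

theorem ev_extend {v : ℕ → G} {c i : G} {L : List ℕ} (hL : Low L) :
    appProd (extend v c i) L = appProd v L := ev_congr fun x hx => if_pos (hL x hx)

namespace Gen

variable {v : ℕ → G} {c i : G}

theorem conj_c (hg : Gen z Q P B v c i) (h : JData z t Q K P B) (hx : c * appProd v q1W * c⁻¹ = appProd v xW) :
    ∀ j < 5, c * appProd v (gen5.getD j []) * c⁻¹ = appProd v (img5.getD j []) := by
  intro j hj
  have hz := hg.frame.hz
  interval_cases j
  · show c * appProd v zW * c⁻¹ = appProd v [3]
    rw [hz]; exact hg.cz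
  · show c * appProd v [3] * c⁻¹ = appProd v (zW ++ [3])
    rw [appProd_append, hz]; exact hg.cu
  · show c * appProd v tW * c⁻¹ = appProd v tW
    rw [← hg.comm_t h hg.cB, mul_inv_cancel_right]
  · show c * appProd v fW * c⁻¹ = appProd v fW
    rw [← hg.fB c hg.cB, mul_inv_cancel_right]
  · exact hx

theorem ev_subW {H : Type*} [Group H] (v : ℕ → H) (c : H) (g g' : List (List ℕ)) :
    ∀ L : List ℕ, (∀ j ∈ L, c * appProd v (g.getD j []) * c⁻¹ = appProd v (g'.getD j [])) →
      c * appProd v (subW g L) * c⁻¹ = appProd v (subW g' L)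
  | [], _ => by simp [subW, appProd]
  | j :: L, hL => by
    have e1 : subW g (j :: L) = g.getD j [] ++ subW g L := by simp [subW]
    have e2 : subW g' (j :: L) = g'.getD j [] ++ subW g' L := by simp [subW]
    rw [e1, e2, appProd_append, appProd_append, ← ev_subW v c g g' L fun k hk => hL k (List.mem_cons_of_mem _ hk),
      ← hL j List.mem_cons_self]
    group

/-- The conjugate of `q₁`. -/
theorem conj_q1 (h : JData z t Q K P B) (hg : Gen z Q P B v c i) : c * appProd v q1W * c⁻¹ = appProd v xW := by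
  have hF := hg.frame
  set u := appProd v [3] with hud
  set q := appProd v q1W
  set f := appProd v fW with hfd
  set τ := appProd v tW with hτd
  obtain ⟨-, m1, m2, m3, m4, m5, -⟩ := model_words
  have hqz : q * z = z * q := by
    have := hF.eq_of (zW ++ q1W) (q1W ++ zW) (by decide) (by decide) m5
    rwa [appProd_append, appProd_append, hF.hz] at this
  have hqu : u * q = q * u := by
    have := hF.eq_of (q1W ++ [3]) ([3] ++ q1W) (by decide) (by decide) m4
    rwa [appProd_append, appProd_append] at this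
  have hq2 : q * q = z := by
    have := hF.eq_of (q1W ++ q1W) zW (by decide) (by decide) m1
    rwa [appProd_append, hF.hz] at this
  have hqt : q * τ = z * (τ * q) := by
    have := hF.eq_of (tW ++ q1W) (q1W ++ tW ++ zW) (by decide) (by decide) m2
    rwa [appProd_append, appProd_append, appProd_append, hF.hz] at this
  have horb : q * (f * q * f⁻¹ * (f * f * q * (f * f)⁻¹)) = 1 := by
    have := hF.eq_of (wconj (fW ++ fW) q1W ++ wconj fW q1W ++ q1W) [] (by decide) (by decide) m3
    rwa [appProd_append, appProd_append, ev_wconj hF.inv, ev_wconj hF.inv, appProd_append] at this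
  set x := c * q * c⁻¹ with hxd
  have hcuz : c * (u * z) * c⁻¹ = z := by
    rw [show c * (u * z) * c⁻¹ = c * u * c⁻¹ * (c * z * c⁻¹) by group, hg.cu, hg.cz]
    have hzu : z * u = u * z := by rw [hud, ev_single]; exact (hF.cent 3).symm
    have huu : u * u = 1 := by
      have := hF.eq_of [3, 3] [] (by decide) (by decide) model_words.2.2.2.2.2.2.2.2.2.2.2.2.2.2.2.2.2.2.2.1
      rwa [show ([3, 3] : List ℕ) = [3] ++ [3] from rfl, appProd_append] at this
    rw [mul_assoc, hzu, ← mul_assoc, huu, one_mul]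
  have conjc : ∀ a b : G, c * (a * b) * c⁻¹ = c * a * c⁻¹ * (c * b * c⁻¹) := fun a b => by group
  have hxz : x * z = z * x := by
    have e : q * (u * z) = u * z * q := by rw [← mul_assoc, ← hqu, mul_assoc, hqz, ← mul_assoc]
    calc x * z = c * (q * (u * z)) * c⁻¹ := by rw [conjc, hcuz]
      _ = z * x := by rw [e, conjc, hcuz]
  have hxu : x * u = u * x := by
    calc x * u = c * (q * z) * c⁻¹ := by rw [conjc, hg.cz]
      _ = u * x := by rw [hqz, conjc, hg.cz]
  have hx2 : x * x = u := by rw [hxd, ← conjc, hq2, hg.cz]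
  have hcτ : c * τ * c⁻¹ = τ := by rw [← hg.comm_t h hg.cB, mul_inv_cancel_right]
  have hcf : c * f * c⁻¹ = f := by rw [← hg.fB c hg.cB, mul_inv_cancel_right]
  have hxt : x * τ = u * (τ * x) := by
    calc x * τ = c * (q * τ) * c⁻¹ := by rw [conjc, hcτ]
      _ = u * (τ * x) := by rw [hqt, conjc, conjc, hg.cz, hcτ]
  have hxo : x * (f * x * f⁻¹ * (f * f * x * (f * f)⁻¹)) = 1 := by
    calc x * (f * x * f⁻¹ * (f * f * x * (f * f)⁻¹))
        = x * (c * f * c⁻¹ * x * (c * f * c⁻¹)⁻¹ * (c * f * c⁻¹ * (c * f * c⁻¹) * x * (c * f * c⁻¹ * (c * f * c⁻¹))⁻¹)) := by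
          rw [hcf]
      _ = c * (q * (f * q * f⁻¹ * (f * f * q * (f * f)⁻¹))) * c⁻¹ := by rw [hxd]; group
      _ = 1 := by rw [horb]; group
  obtain ⟨e, he, e', ev, hlow⟩ := hF.mem_elems hxz
  have hfW : Low fW := word_facts.2.2.2.2.2.1
  have htW : Low tW := word_facts.2.2.2.2.2.2.1
  have hcond : condX e.2 = true := by
    simp only [condX, Bool.and_eq_true, beq_iff_eq, f2V]
    rw [ev, ← const_ok.1, ← const_ok.2.2.1, ← const_ok.2.2.2.1]
    simp only [← m32_append]
    refine ⟨⟨⟨?_, ?_⟩, ?_⟩, ?_⟩
    · refine (hF.eqv _ _ (low_append (by decide) hlow) (low_append hlow (by decide))).1 ?_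
      rw [appProd_append, appProd_append, e', hxu]
    · refine (hF.eqv _ _ (low_append hlow hlow) (by decide)).1 ?_
      rw [appProd_append, e', hx2]
    · refine (hF.eqv _ _ (low_append htW hlow) (low_append (low_append hlow htW) (by decide))).1 ?_
      rw [appProd_append, appProd_append, appProd_append, e', hxt]
    · refine (hF.eqv _ [] (low_append (low_append (low_append (low_append hfW hlow) (low_append hfW hfW))
        (low_append (low_append (low_append hfW hfW) hlow) hfW)) hlow) (by decide)).1 ?_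
      simp only [appProd_append, e']
      show _ = 1
      rw [← hxo]
      have hf3 : f * f * f = 1 := by
        have := hF.eq_of (fW ++ fW ++ fW) [] (by decide) (by decide) model_words.2.2.2.2.2.2.2.2.2.2.2.2.2.1
        simpa [appProd_append, appProd, mul_assoc] using this
      have hf2 : f⁻¹ = f * f := inv_eq_of_mul_eq_one_right (by rw [← mul_assoc, hf3])
      have h4 : f⁻¹ * f⁻¹ = f := by rw [hf2]; calc f * f * (f * f) = f * f * f * f := by group
                                                _ = f := by rw [hf3, one_mul]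
      rw [mul_inv_rev, h4, hf2]
      simp only [mul_assoc]
      rfl
  have hs := List.all_eq_true.1 search_X e he
  rw [hcond, Bool.not_true, Bool.false_or, beq_iff_eq, ev, ← const_ok.2.2.2.2.2.2] at hs
  exact e' ▸ hF.eq_of e.1 xW hlow (by decide) hs

/-- The element `y`. -/
theorem exists_y (h : JData z t Q K P B) (hg : Gen z Q P B v c i) :
    ∃ y, (y = yW ∨ y = yW') ∧ appProd v sW * c * (appProd v sW)⁻¹ = appProd v y * c⁻¹ := by
  have hF := hg.frame
  have hx := hg.conj_q1 h
  have hcc := hg.conj_c h hx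
  set s := appProd v sW with hsd
  have hss : s * s = 1 := by
    have := hF.eq_of (sW ++ sW) [] (by decide) (by decide) model_words.2.2.2.2.2.2.2.2.2.1
    rwa [appProd_append] at this
  have hsi : s⁻¹ = s := inv_eq_of_mul_eq_one_right hss
  set y := s * c * s⁻¹ * c with hyd
  have hlg : ∀ j < 5, Low (gen5.getD j []) ∧ Low (img5.getD j []) ∧ Low (subW gen5 (sgW.getD j [])) ∧
      Low (tgt5.getD j []) ∧ (∀ k ∈ sgW.getD j [], k < 5) := by decide +kernel
  have hlen : tgt5.length = 5 ∧ gen5.length = 5 ∧ sgW.length = 5 := by decide +kernel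
  have htgt : ∀ j < 5, tgt5.getD j [] = wconj sW (subW img5 (sgW.getD j [])) := by decide +kernel
  have key : ∀ j < 5, y * appProd v (gen5.getD j []) * y⁻¹ = appProd v (tgt5.getD j []) := fun j hj => by
    rw [htgt j hj, ev_wconj hF.inv, ← ev_subW v c gen5 img5 _ fun k hk => hcc k ((hlg j hj).2.2.2.2 k hk),
      hF.eq_of _ _ (hlg j hj).2.2.1 (low_wconj (by decide) (hlg j hj).2.1) (sg_spec j hj), ev_wconj hF.inv,
      ev_winv hF.inv, ← hcc j hj, hyd, ← hsd]
    group
  have hyz : y * z = z * y := by
    have h0 := key 0 (by norm_num)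
    rw [show gen5.getD 0 [] = zW from rfl, hF.hz, hF.eq_of _ zW (hlg 0 (by norm_num)).2.2.2.1 (by decide) tgt5_zero,
      hF.hz] at h0
    exact mul_inv_eq_iff_eq_mul.1 h0
  obtain ⟨e, he, e', ev, hlow⟩ := hF.mem_elems hyz
  have hcond : condY ((gen5.map m32).zip (tgt5.map m32)) e.2 = true := by
    simp only [condY, List.all_eq_true, beq_iff_eq]
    intro p hp
    obtain ⟨j, hj, rfl⟩ := List.mem_iff_getElem.1 hp
    simp only [List.length_zip, List.length_map] at hj
    have hj5 : j < 5 := by omega
    simp only [List.getElem_zip, List.getElem_map]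
    rw [ev, ← m32_append, ← m32_append]
    have e1 : gen5[j]'(by omega) = gen5.getD j [] := (List.getD_eq_getElem _ _ _).symm
    have e2 : tgt5[j]'(by omega) = tgt5.getD j [] := (List.getD_eq_getElem _ _ _).symm
    rw [e1, e2]
    refine (hF.eqv _ _ (low_append (hlg j hj5).1 hlow) (low_append hlow (hlg j hj5).2.2.2.1)).1 ?_
    rw [appProd_append, appProd_append, e', ← key j hj5, inv_mul_cancel_right]
  have hs := List.all_eq_true.1 search_Y e he
  rw [hcond, Bool.not_true, Bool.false_or, List.contains_iff_mem, ev, List.mem_map] at hs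
  obtain ⟨L, hL, hLe⟩ := hs
  have hyl : ∀ L ∈ ycW, Low (subW gen5 L) ∧ Low (subW img5 L) ∧ ∀ k ∈ L, k < 5 := by decide +kernel
  obtain ⟨l1, l2, l3⟩ := hyl L hL
  have hyL : appProd v (subW gen5 L) = y := (hF.eq_of _ _ l1 hlow hLe).trans e'
  have hfil : m32 (wconj sW (subW gen5 L)) = m32 (subW img5 L) := by
    refine (hF.eqv _ _ (low_wconj (by decide) l1) l2).1 ?_
    rw [ev_wconj hF.inv, hyL, ← ev_subW v c gen5 img5 L fun k hk => hcc k (l3 k hk), hyL, hyd, ← hsd]
    simp only [hsi]
    calc s * (s * c * s * c) * s = s * s * c * s * c * s := by group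
      _ = c * s * c * s := by rw [hss, one_mul]
      _ = c * (s * c * s * c) * c⁻¹ * 1 * 1 := by rw [show c * (s * c * s * c) * c⁻¹ = c * s * c * s by group]; group
      _ = _ := by group
  have hv : ∀ y' : List ℕ, Low y' → m32 (subW gen5 L) = m32 y' → s * c * s⁻¹ = appProd v y' * c⁻¹ := fun y' hy' e0 => by
    rw [← hF.eq_of _ y' l1 hy' e0, hyL, hyd, mul_inv_cancel_right]
  rcases filter_Y L hL hfil with e0 | e0
  · exact ⟨yW, Or.inl rfl, hv yW (by decide) e0⟩
  · exact ⟨yW', Or.inr rfl, hv yW' (by decide) e0⟩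

end Gen

/-- A group of Hall–Janko type has seven letters satisfying all relations. -/
theorem exists_rels (h : JData z t Q K P B) : ∃ (w : ℕ → G) (y : List ℕ), (y = yW ∨ y = yW') ∧ Inv w ∧
    (∀ L ∈ relJ y, appProd w L = 1) ∧ (∀ x < 4, w x * z = z * w x) ∧ w 4 * z ≠ z * w 4 ∧ w 0 ≠ 1 := by
  classical
  obtain ⟨v₀, c, i, hg₀⟩ := exists_gen h
  obtain ⟨v, hg, hai⟩ := hg₀.exists_comm_a h
  have hF := hg.frame
  have hx := hg.conj_q1 h
  obtain ⟨y, hy, hsc⟩ := hg.exists_y h
  set w := extend v c i with hwd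
  have hw : Inv w := inv_extend hF.inv hg.ii
  have hyl : Low y := by rcases hy with rfl | rfl <;> decide
  have hmodel : ∀ L ∈ relC, Low L ∧ m32 L = m32 [] :=
    fun L hL => ⟨(show ∀ L ∈ relC, Low L by decide +kernel) L hL, model_relC L hL⟩
  have evz : appProd w zW = z := (ev_extend (by decide)).trans hF.hz
  have ev3 : appProd w [3] = appProd v [3] := ev_extend (by decide)
  have ev4 : appProd w [4] = c := ev_single w 4
  have ev6 : appProd w [6] = i := ev_single w 6
  have evt : appProd w tW = appProd v tW := ev_extend (by decide)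
  have evf : appProd w fW = appProd v fW := ev_extend (by decide)
  refine ⟨w, y, hy, hw, ?_, fun x hx => ?_, ?_, ?_⟩
  · intro L hL
    simp only [relJ, List.mem_append] at hL
    rcases hL with (hL | hL) | hL
    · obtain ⟨hlow, e0⟩ := hmodel L hL
      rw [hwd, ev_extend hlow]
      exact hF.eq_of L [] hlow (by decide) e0
    · simp only [relX, List.mem_cons, List.not_mem_nil, or_false] at hL
      rcases hL with rfl | rfl | rfl | rfl | rfl | rfl | rfl
      · show (1 * c * c) * c = 1
        rw [one_mul]; exact hg.c3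
      · rw [ev_wcomm hw, ev4, evt]; exact (hg.comm_t h hg.cB).symm
      · rw [ev_wcomm hw, ev4, evf]; exact (hg.fB c hg.cB).symm
      · rw [appProd_append, ev_wconj hw, evz, ev4, ev3, hg.cz]
        have := hF.eq_of [3, 3] [] (by decide) (by decide) model_words.2.2.2.2.2.2.2.2.2.2.2.2.2.2.2.2.2.2.2.1
        rwa [show ([3, 3] : List ℕ) = [3] ++ [3] from rfl, appProd_append] at this
      · rw [appProd_append, appProd_append, ev_wconj hw, ev_winv hw, evz, ev4, ev3, hg.cu]
        have := hF.eq_of [3, 3] [] (by decide) (by decide) model_words.2.2.2.2.2.2.2.2.2.2.2.2.2.2.2.2.2.2.2.1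
        rw [show ([3, 3] : List ℕ) = [3] ++ [3] from rfl, appProd_append] at this
        have hzu : z⁻¹ * (appProd v [3] * z) = appProd v [3] := by
          rw [show appProd v [3] * z = z * appProd v [3] by rw [ev_single]; exact hF.cent 3, inv_mul_cancel_left]
        rw [hzu]
        exact this
      · rw [appProd_append, ev_winv hw, ev_wconj hw, ev4, hwd, ev_extend (by decide), ev_extend (by decide), hx,
          inv_mul_cancel]
      · rw [appProd_append, ev_winv hw, ev_wconj hw, appProd_append, ev4, hwd, ev_extend hyl,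
          ev_extend (L := sW) (by decide)]
        rw [show appProd (extend v c i) [5] = c⁻¹ from ev_single _ 5, hsc, inv_mul_cancel]
    · simp only [relI, relB, List.map_cons, List.map_nil, List.mem_append, List.mem_cons, List.not_mem_nil,
        or_false] at hL
      have ev5 : appProd w [5] = c⁻¹ := ev_single w 5
      rcases hL with ((rfl | rfl | rfl) | rfl | rfl | rfl | rfl | rfl | rfl) | rfl
      · show 1 * i * i = 1
        rw [one_mul]; exact hg.ii
      · rw [ev_wcomm hw, ev6, evt]; exact (hg.comm_t h hg.iB).symm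
      · rw [ev_wcomm hw, ev6, evf]; exact (hg.fB i hg.iB).symm
      · rw [ev_replicate, show appProd w [4, 6] = 1 * i * c from rfl, one_mul]; exact hg.ic
      · rw [ev_replicate, show appProd w [5, 6] = 1 * i * c⁻¹ from rfl, one_mul]; exact hg.ic'
      · rw [ev_replicate, appProd_append, evz, ev6]; exact hg.iz5
      · rw [ev_replicate, show appProd w [3, 6] = 1 * i * v 3 from rfl, one_mul]
        rw [← ev_single v 3]; exact hg.iu5
      · rw [ev_replicate, appProd_append, evz, show appProd w [4, 6] = 1 * i * c from rfl, one_mul]; exact hg.icz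
      · rw [ev_replicate, show appProd w [3, 4, 6] = 1 * i * c * v 3 from rfl, one_mul]
        rw [← ev_single v 3]; exact hg.icu
      · show 1 * i * v 0 * i * v 0 = 1
        have ha : v 0 * v 0 = 1 := by
          have := hF.eq_of [0, 0] [] (by decide) (by decide) model_z.2
          simpa [appProd] using this
        rw [one_mul]
        calc i * v 0 * i * v 0 = i * (v 0 * i) * v 0 := by group
          _ = i * i * (v 0 * v 0) := by rw [hai]; group
          _ = 1 := by rw [ha, mul_one, hg.ii]
  · rw [hwd, extend, if_pos hx]; exact hF.cent x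
  · intro e0
    have e1 : c * z * c⁻¹ = z := by rw [show c * z = z * c from e0, mul_inv_cancel_right]
    rw [hg.cz] at e1
    exact model_words.2.2.2.2.2.2.2.2.2.2.2.2.2.2.2.2.2.2.2.2.2.2.1
      ((hF.eqv [3] zW (by decide) (by decide)).1 (e1.trans hF.hz.symm))
  · intro e0
    have hne : m32 [0] ≠ m32 [] := by decide +kernel
    exact hne ((hF.eqv [0] [] (by decide) (by decide)).1 (by rw [ev_single]; exact e0))

end CfsgLib.Characterizations.HallJanko.Uniq
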