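import Cfsg.Agent.Lib.Characterizations.HallJanko.Uniq.Generators
import Cfsg.Agent.Lib.Characterizations.HallJanko.Uniq.CertG
import Cfsg.Agent.Lib.Characterizations.HallJanko.Uniq.CertB
import Cfsg.Agent.Lib.Sporadic.Icosian.Group

/-!
# Uniqueness of the group of Hall–Janko type

The seven letters satisfy relations under which a coset table over the centraliser of `z` has 315 cosets; read
in the product with the group on one hundred points this gives the isomorphism.
-/

set_option autoImplicit false
set_option maxRecDepth 100000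
set_option linter.style.haveILetI false
set_option linter.unusedSectionVars false

namespace CfsgLib.Characterizations.HallJanko.Uniq

open CfsgLib.Sporadic.CosetCert (appProd appProd_append)
open CfsgLib.SmallGroups.PermChain (get ok rep_fst gensOf)
open Data

/-- A letter on one hundred points. -/
def n100 (x : ℕ) : ℕ := v100N.getD x (CfsgLib.SmallGroups.PermChain.pack (List.range 100))

/-- A letter as a permutation of one hundred points. -/
def v100 (x : ℕ) : Equiv.Perm (Fin 100) := if x < 7 then CfsgLib.SmallGroups.PermChain.toPerm 100 (n100 x, n100 (iv x)) else 1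

theorem n100_ok : ∀ x < 7, ok 100 (n100 x, n100 (iv x)) = true ∧ iv x < 7 ∧
    ∀ i : Fin 100, get (n100 (iv x)) (get (n100 x) i.val) = i.val := by decide +kernel

/-- Apply a word to a point. -/
def run100 (L : List ℕ) (i : ℕ) : ℕ := L.foldl (fun p x => get (n100 x) p) i

theorem run_spec : ∀ (L : List ℕ), (∀ x ∈ L, x < 7) → ∀ i : Fin 100, ((appProd v100 L i : Fin 100) : ℕ) = run100 L i.val
  | [], _, i => rfl
  | x :: L, h, i => by
    have hx : x < 7 := h x List.mem_cons_self
    have e : ((v100 x i : Fin 100) : ℕ) = get (n100 x) i.val := by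
      rw [v100, if_pos hx]; exact (rep_fst (n100_ok x hx).1 i).symm
    rw [appProd, Equiv.Perm.mul_apply, run_spec L (fun y hy => h y (List.mem_cons_of_mem _ hy)), e]
    rfl

theorem inv_v100 : Inv v100 := by
  intro x
  by_cases hx : x < 7
  · refine eq_inv_of_mul_eq_one_left (Equiv.ext fun i => Fin.ext ?_)
    obtain ⟨-, hiv, hii⟩ := n100_ok x hx
    have h := run_spec [x, iv x] (fun y hy => by
      rcases List.mem_cons.1 hy with rfl | hy
      exacts [hx, (List.mem_singleton.1 hy) ▸ hiv]) i
    simp only [appProd, one_mul] at h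
    exact h.trans (hii i)
  · have hiv : ¬ iv x < 7 := by rw [iv, List.getD_eq_default _ _ (by simp [invLetter]; omega)]; exact hx
    rw [v100, if_neg hiv, v100, if_neg hx, inv_one]

theorem rels100 : ∀ L ∈ relJ yW, (∀ x ∈ L, x < 7) ∧ ∀ i < 100, run100 L i = i := by decide +kernel

theorem gens100 : ((gensOf (CfsgLib.SmallGroups.HallJankoData.level1 :: CfsgLib.SmallGroups.HallJanko.chain₁)).zip
    genW).length = (gensOf (CfsgLib.SmallGroups.HallJankoData.level1 :: CfsgLib.SmallGroups.HallJanko.chain₁)).length ∧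
    ∀ p ∈ (gensOf (CfsgLib.SmallGroups.HallJankoData.level1 :: CfsgLib.SmallGroups.HallJanko.chain₁)).zip genW,
      ok 100 p.1 = true ∧ (∀ x ∈ p.2, x < 7) ∧ ∀ i < 100, run100 p.2 i = get p.1.1 i := by decide +kernel

theorem wordsG : WordsAre certG (relJ yW) [0, 1, 3] := by unfold WordsAre; decide +kernel

theorem wordsB : WordsAre certB (relJ yW') [0, 1, 3] := by unfold WordsAre; decide +kernel

theorem invG : (∀ x < certG.nl, certG.inv x = iv x) ∧ (∀ x < certB.nl, certB.inv x = iv x) := by decide +kernel

variable {G : Type*} [Group G] [Finite G]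

/-- A group of Hall–Janko type is isomorphic to the group on one hundred points. -/
theorem nonempty_iso {z t : G} {Q K P B : Subgroup G} (h : JData z t Q K P B) :
    Cfsg.Spor.IsoJ2 G := by
  classical
  obtain ⟨w, y, hy, hw, hrel, hcent, hc4, hw0⟩ := exists_rels h
  rcases hy with rfl | rfl
  swap
  · -- the second possibility collapses
    exfalso
    have hS : ∀ s ∈ ([0, 1, 3] : List ℕ), w s ∈ Subgroup.centralizer ({z} : Set G) := fun s hs =>
      Subgroup.mem_centralizer_singleton_iff.2 (hcent s (by
        simp only [List.mem_cons, List.not_mem_nil, or_false] at hs; omega))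
    obtain ⟨h1, h2⟩ := card_closure_le certB_valid Nat.one_pos w invG.2 hw wordsB hrel _ hS
    have hN1 : certB.N = 1 := rfl
    rw [hN1] at h1
    have hone : (Subgroup.centralizer ({z} : Set G)).relIndex (Subgroup.closure (w '' Set.Iio certB.nl)) = 1 := by
      omega
    exact hc4 (Subgroup.mem_centralizer_singleton_iff.1 (Subgroup.relIndex_eq_one.1 hone
      (Subgroup.subset_closure ⟨4, show 4 < certB.nl by decide +kernel, rfl⟩)))
  let pw : ℕ → G × Equiv.Perm (Fin 100) := fun x => (w x, v100 x)
  have hpw : Inv pw := fun x => Prod.ext (hw x) (inv_v100 x)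
  have hfst : ∀ L, (appProd pw L).1 = appProd w L := fun L =>
    map_ev (MonoidHom.fst G (Equiv.Perm (Fin 100))) pw L
  have hsnd : ∀ L, (appProd pw L).2 = appProd v100 L := fun L =>
    map_ev (MonoidHom.snd G (Equiv.Perm (Fin 100))) pw L
  have hrelp : ∀ L ∈ relJ yW, appProd pw L = 1 := fun L hL => Prod.ext ((hfst L).trans (hrel L hL))
    ((hsnd L).trans (Equiv.ext fun i => Fin.ext
      ((run_spec L (rels100 L hL).1 i).trans ((rels100 L hL).2 i i.2))))
  -- the subgroup of the letters of the centraliser
  have hcard4 : Nat.card (Subgroup.closure (pw '' Set.Iio 4)) ≤ 1920 ∧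
      Nat.card (Subgroup.closure (pw '' Set.Iio 4)) ≠ 0 := by
    obtain ⟨wC, wK, iC, iK, nC, lC, nK, lK⟩ := wordsC
    have hC : ∀ L ∈ relC, L ∈ relJ yW := fun L hL => List.mem_append_left _ (List.mem_append_left _ hL)
    have hK : ∀ L ∈ relK, L ∈ relJ yW := fun L hL => hC L (List.mem_append_left _ hL)
    let S1 := Subgroup.zpowers (pw 1)
    have hS1 : Nat.card S1 ≤ 3 ∧ Nat.card S1 ≠ 0 := by
      have h3 : pw 1 ^ 3 = 1 := by
        rw [← hrelp [1, 1, 1] (hK _ (by simp [relK]))]
        simp [appProd, pow_succ]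
      rw [Nat.card_zpowers]
      exact ⟨Nat.le_of_dvd (by norm_num) (orderOf_dvd_of_pow_eq_one h3),
        (orderOf_pos_iff.2 (isOfFinOrder_iff_pow_eq_one.2 ⟨3, by norm_num, h3⟩)).ne'⟩
    have h60 := natCard_closure_le certK_valid (by rw [nK]; norm_num) pw iK hpw wK
      (fun L hL => hrelp L (hK L hL)) S1
      (fun s hs => by rw [List.mem_singleton] at hs; subst hs; exact Subgroup.mem_zpowers _)
      (Subgroup.zpowers_le.2 (Subgroup.subset_closure ⟨1, by rw [lK]; exact show 1 < 3 by norm_num, rfl⟩)) hS1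
    rw [nK, lK] at h60
    have h32 := natCard_closure_le certC_valid (by rw [nC]; norm_num) pw iC hpw wC (fun L hL => hrelp L (hC L hL))
      (Subgroup.closure (pw '' Set.Iio 3))
      (fun s hs => Subgroup.subset_closure ⟨s, by
        simp only [List.mem_cons, List.not_mem_nil, or_false] at hs
        rcases hs with rfl | rfl <;> simp, rfl⟩)
      (Subgroup.closure_mono (Set.image_mono (fun x (hx : x < 3) => show x < certC.nl by rw [lC]; omega))) h60
    rw [nC, lC] at h32
    exact h32
  have hnl : certG.nl = 7 ∧ certG.N = 315 := ⟨rfl, rfl⟩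
  have hD := natCard_closure_le certG_valid (by rw [hnl.2]; norm_num) pw invG.1 hpw wordsG hrelp
    (Subgroup.closure (pw '' Set.Iio 4))
    (fun s hs => Subgroup.subset_closure ⟨s, by
      simp only [List.mem_cons, List.not_mem_nil, or_false] at hs
      rcases hs with rfl | rfl | rfl <;> simp, rfl⟩)
    (Subgroup.closure_mono (Set.image_mono (fun x (hx : x < 4) => show x < certG.nl by rw [hnl.1]; omega))) hcard4
  rw [hnl.1, hnl.2] at hD
  set D := Subgroup.closure (pw '' Set.Iio 7)
  let p2 : ↥D →* Equiv.Perm (Fin 100) := (MonoidHom.snd G (Equiv.Perm (Fin 100))).comp D.subtype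
  let p1 : ↥D →* G := (MonoidHom.fst G (Equiv.Perm (Fin 100))).comp D.subtype
  have hle : CfsgLib.Sporadic.Icosian.J ≤ p2.range := by
    refine Subgroup.closure_le _ |>.2 ?_
    rintro σ ⟨e, he, rfl⟩
    obtain ⟨n, hn, rfl⟩ := List.mem_iff_getElem.1 he
    have hn' : n < genW.length := by
      have := gens100.1
      rw [List.length_zip] at this
      omega
    obtain ⟨hok, hlt, hrun⟩ := gens100.2 (_, genW[n]) (List.mem_iff_getElem.2
      ⟨n, by rw [gens100.1]; exact hn, List.getElem_zip⟩)
    refine ⟨⟨appProd pw genW[n], ev_mem fun x hx => Subgroup.subset_closure ⟨x, hlt x hx, rfl⟩⟩,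
      (hsnd _).trans (Equiv.ext fun i => Fin.ext ?_)⟩
    exact ((run_spec _ hlt i).trans (hrun i i.2)).trans (rep_fst hok i)
  have h604 : 604800 ≤ Nat.card p2.range := by
    rw [← CfsgLib.Sporadic.Icosian.card_J]
    exact Subgroup.card_le_of_le hle
  haveI : Finite D := Nat.finite_of_card_ne_zero hD.2
  have hbij : Function.Bijective p2.rangeRestrict :=
    (Nat.bijective_iff_surjective_and_card _).2 ⟨p2.rangeRestrict_surjective, le_antisymm
      (le_trans hD.1 h604) (Nat.card_le_card_of_surjective _ p2.rangeRestrict_surjective)⟩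
  have hrange : CfsgLib.Sporadic.Icosian.J = p2.range := by
    refine Subgroup.eq_of_le_of_card_ge hle ?_
    rw [CfsgLib.Sporadic.Icosian.card_J, ← Nat.card_congr (MulEquiv.ofBijective _ hbij).toEquiv]
    exact hD.1
  let eJ : ↥CfsgLib.Sporadic.Icosian.J ≃* ↥D :=
    (MulEquiv.subgroupCongr hrange).trans (MulEquiv.ofBijective _ hbij).symm
  let π : ↥CfsgLib.Sporadic.Icosian.J →* G := p1.comp eJ.toMonoidHom
  have hinj : Function.Injective π := by
    haveI : IsSimpleGroup ↥CfsgLib.Sporadic.Icosian.J := CfsgLib.Sporadic.Icosian.J_simple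
    rw [← MonoidHom.ker_eq_bot_iff]
    refine (IsSimpleGroup.eq_bot_or_eq_top_of_normal _ inferInstance).resolve_right fun htop => hw0 ?_
    let d : ↥D := ⟨pw 0, Subgroup.subset_closure ⟨0, by simp, rfl⟩⟩
    have h1 : p1 (eJ (eJ.symm d)) = 1 := MonoidHom.mem_ker.1 (show eJ.symm d ∈ π.ker by rw [htop]; exact Subgroup.mem_top _)
    rw [MulEquiv.apply_symm_apply] at h1
    exact h1
  exact ⟨((MulEquiv.ofBijective π ((Nat.bijective_iff_injective_and_card _).2
    ⟨hinj, by rw [CfsgLib.Sporadic.Icosian.card_J, h.card]⟩)).symm).trans CfsgLib.Sporadic.Icosian.equivJ.symm⟩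

end CfsgLib.Characterizations.HallJanko.Uniq
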