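import Cfsg.Agent.Lib.Characterizations.HallJanko.Uniq.Words

/-!
# Finite searches in the model of the centraliser and in `A₅`
-/

set_option autoImplicit false
set_option maxRecDepth 100000
set_option maxHeartbeats 1000000

namespace CfsgLib.Characterizations.HallJanko.Uniq

open CfsgLib.SmallGroups.PermChain (comp)
open CfsgLib.Sporadic.CosetCert (appProd)
open Data Equiv

/-- The generators of the centraliser of `z` and `u`. -/
def gen5 : List (List ℕ) := [zW, [3], tW, fW, q1W]

/-- Their images under the conjugation by `c`. -/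
def img5 : List (List ℕ) := [[3], zW ++ [3], tW, fW, xW]

/-- Substitution of words for letters. -/
def subW (g : List (List ℕ)) (L : List ℕ) : List ℕ := (L.map fun j => g.getD j []).flatten

/-- The inverse of `f` on thirty-two points. -/
def f2V : ℕ := comp 32 fV fV

/-- An involution commuting with `f`. -/
def condW (m : ℕ) : Bool :=
  comp 32 m m == id32 && comp 32 m fV == comp 32 fV m && !(m == id32) && !(m == zV)

theorem search_W : (elems.all fun e => !condW e.2 ||
    [m32 [3], m32 (zW ++ [3]), m32 sW, m32 (zW ++ sW)].contains e.2) = true := by decide +kernel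

/-- An element spanning with its conjugates under `f` a four-group commuting with `u`. -/
def condP (m : ℕ) : Bool :=
  comp 32 m m == id32 && comp 32 m uV == comp 32 uV m && !(m == comp 32 fV (comp 32 m f2V)) &&
    comp 32 m (comp 32 (comp 32 fV (comp 32 m f2V)) (comp 32 f2V (comp 32 m fV))) == id32

/-- The possible four-groups. -/
def listP : List (List ℕ) :=
  [tW, wconj fW tW, wconj (fW ++ fW) tW, wconj sW tW, wconj sW (wconj fW tW), wconj sW (wconj (fW ++ fW) tW)]

theorem search_P : (elems.all fun e => !condP e.2 || qV.contains e.2 || (listP.map m32).contains e.2) = true := by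
  decide +kernel

/-- An involution related to `t` and `f` as `a`. -/
def condV (m : ℕ) : Bool :=
  comp 32 m m == id32 && !(m == id32) &&
    (List.replicate 5 (comp 32 tV m)).foldr (comp 32) id32 == id32 &&
    (List.replicate 3 (comp 32 fV m)).foldr (comp 32) id32 == id32 &&
    (List.replicate 5 (comp 32 fV (comp 32 tV m))).foldr (comp 32) id32 == id32

theorem search_V : (elems.all fun e => !condV e.2 || [m32 [0], m32 [3, 0, 3]].contains e.2) = true := by
  decide +kernel

/-- The image of `q₁` under `c`. -/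
def condX (m : ℕ) : Bool :=
  comp 32 m uV == comp 32 uV m && comp 32 m m == uV && comp 32 m tV == comp 32 uV (comp 32 tV m) &&
    comp 32 m (comp 32 (comp 32 fV (comp 32 m f2V)) (comp 32 f2V (comp 32 m fV))) == id32

theorem search_X : (elems.all fun e => !condX e.2 || e.2 == xV) = true := by decide +kernel

/-- The targets of the conjugation by `y`. -/
def tgt5 : List (List ℕ) := sgW.map fun L => wconj sW (subW img5 L)

theorem tgt5_zero : m32 (tgt5.getD 0 []) = m32 zW := by decide +kernel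

theorem sg_spec : ∀ j < 5, m32 (subW gen5 (sgW.getD j [])) = m32 (wconj (winv sW) (img5.getD j [])) := by
  decide +kernel

/-- The element `y`. -/
def condY (gs : List (ℕ × ℕ)) (m : ℕ) : Bool := gs.all fun p => comp 32 m p.1 == comp 32 p.2 m

theorem search_Y : (elems.all fun e => !condY ((gen5.map m32).zip (tgt5.map m32)) e.2 ||
    (ycW.map fun L => m32 (subW gen5 L)).contains e.2) = true := by decide +kernel

theorem filter_Y : ∀ L ∈ ycW, m32 (wconj sW (subW gen5 L)) = m32 (subW img5 L) →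
    m32 (subW gen5 L) = m32 yW ∨ m32 (subW gen5 L) = m32 yW' := by decide +kernel

theorem model_words :
    m32 (zW ++ zW) = m32 [] ∧ m32 (q1W ++ q1W) = m32 zW ∧ m32 (tW ++ q1W) = m32 (q1W ++ tW ++ zW) ∧
    m32 (wconj (fW ++ fW) q1W ++ wconj fW q1W ++ q1W) = m32 [] ∧
    m32 (q1W ++ [3]) = m32 ([3] ++ q1W) ∧ m32 (zW ++ q1W) = m32 (q1W ++ zW) ∧
    m32 (fW ++ [3]) = m32 ([3] ++ fW) ∧ m32 (tW ++ [3]) = m32 ([3] ++ tW) ∧
    m32 (fW ++ sW) = m32 (sW ++ fW) ∧ m32 (sW ++ sW) = m32 [] ∧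
    m32 (wconj sW [3]) = m32 (zW ++ [3]) ∧
    m32 (wconj swapW fW) = m32 (fW ++ fW) ∧
    (m32 (wconj swapW [3]) = m32 sW ∨ m32 (wconj swapW [3]) = m32 (zW ++ sW)) ∧
    m32 (fW ++ fW ++ fW) = m32 [] ∧ m32 fW ≠ m32 [] ∧
    m32 (tW ++ tW) = m32 [] ∧ m32 tW ≠ m32 [] ∧ m32 ((List.replicate 3 (fW ++ tW)).flatten) = m32 [] ∧
    m32 (zW ++ [3]) = m32 ([3] ++ zW) ∧ m32 [3, 3] = m32 [] ∧ m32 zW ≠ m32 [] ∧
    m32 [3] ≠ m32 [] ∧ m32 [3] ≠ m32 zW ∧ m32 (tW ++ zW) = m32 (zW ++ tW) := by decide +kernel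

/-- The relations of `B` in the alternating group. -/
def condB (Z U C I : Perm (Fin 5)) : Prop :=
  C * C * C = 1 ∧ C * Z * C⁻¹ = U ∧ C * U * C⁻¹ = U * Z ∧ I * I = 1 ∧ I ≠ Z ∧ (I * C) ^ 2 = 1 ∧
    (I * C⁻¹) ^ 2 = 1 ∧ (I * Z) ^ 5 = 1 ∧ (I * U) ^ 5 = 1 ∧ (I * C * Z) ^ 3 = 1 ∧ (I * C * U) ^ 5 = 1

instance (Z U C I : Perm (Fin 5)) : Decidable (condB Z U C I) := by unfold condB; infer_instance

theorem search_B : ∀ Z : Perm (Fin 5), Perm.sign Z = 1 → Z * Z = 1 → Z ≠ 1 → ∀ U : Perm (Fin 5),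
    Perm.sign U = 1 → U * U = 1 → U ≠ 1 → U ≠ Z → Z * U = U * Z →
    ∃ C : Perm (Fin 5), Perm.sign C = 1 ∧ C * Z * C⁻¹ = U ∧ ∃ I : Perm (Fin 5), Perm.sign I = 1 ∧ condB Z U C I := by
  decide +kernel

/-- The relations of `a` with `t` and `f` in the alternating group. -/
def condA (T F U : Perm (Fin 5)) : Prop :=
  U * U = 1 ∧ U ≠ 1 ∧ (T * U) ^ 5 = 1 ∧ (F * U) ^ 3 = 1 ∧ (F * T * U) ^ 5 = 1

instance (T F U : Perm (Fin 5)) : Decidable (condA T F U) := by unfold condA; infer_instance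

/-- The relations have one solution. -/
def uniqA (T F : Perm (Fin 5)) : Prop :=
  ∃ U : Perm (Fin 5), Perm.sign U = 1 ∧ condA T F U ∧
    ∀ U' : Perm (Fin 5), Perm.sign U' = 1 → condA T F U' → U' = U

instance (T F : Perm (Fin 5)) : Decidable (uniqA T F) := by unfold uniqA; infer_instance

theorem search_A : ∀ T : Perm (Fin 5), Perm.sign T = 1 → T * T = 1 → T ≠ 1 → ∀ F : Perm (Fin 5),
    Perm.sign F = 1 → F * F * F = 1 → F ≠ 1 → (T * F) ^ 3 = 1 →
    uniqA T F := by decide +kernel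

end CfsgLib.Characterizations.HallJanko.Uniq
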