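import Cfsg.Agent.Lib.Characterizations.HallJanko.Uniq.Frame
import Cfsg.Agent.Lib.Characterizations.HallJanko.Uniq.Search
import Cfsg.Agent.Lib.Characterizations.HallJanko.FourNormalizer
import Cfsg.Agent.Lib.Characterizations.HallJanko.ThreeCent

/-!
# Normalised generators of a group of Hall–Janko type
-/

set_option autoImplicit false
set_option maxRecDepth 100000
set_option linter.style.haveILetI false
set_option linter.unusedSectionVars false

namespace CfsgLib.Characterizations.HallJanko.Uniq

open CfsgLib.Sporadic.CosetCert (appProd appProd_append)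
open CfsgLib.SmallGroups.PermChain (comp)
open CfsgLib.Characterizations.HallJankoCount
open CfsgLib.Involution.Dihedral
open Data

variable {G : Type*} [Group G] [Finite G] {z t : G} {Q K P B : Subgroup G} {v : ℕ → G}

/-- The element `f` normalises `P`, centralises `B` and moves `t`. -/
structure Cyc (t : G) (P B : Subgroup G) (f : G) : Prop where
  f3 : f * f * f = 1
  comm : ∀ b ∈ B, f * b = b * f
  norm : ∀ p ∈ P, f * p * f⁻¹ ∈ P
  move : f * t * f⁻¹ ≠ t

theorem Cyc.ne {f : G} (h : Cyc t P B f) : f ≠ 1 := fun e => h.move (by rw [e]; group)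

theorem Cyc.inv {f : G} (h : Cyc t P B f) : Cyc t P B f⁻¹ := by
  have e : f⁻¹ = f * f := inv_eq_of_mul_eq_one_right (by rw [← mul_assoc, h.f3])
  refine ⟨?_, fun b hb => ?_, fun p hp => ?_, fun e' => h.move ?_⟩
  · rw [e]; calc f * f * (f * f) * (f * f) = f * f * f * (f * f * f) := by group
      _ = 1 := by rw [h.f3, one_mul]
  · exact (Commute.inv_left (h.comm b hb)).eq
  · have := h.norm _ (h.norm p hp)
    rw [e, mul_inv_rev]
    rwa [show f * (f * p * f⁻¹) * f⁻¹ = f * f * p * (f⁻¹ * f⁻¹) by group] at this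
  · rw [inv_inv] at e'
    calc f * t * f⁻¹ = f * (f⁻¹ * t * f) * f⁻¹ := by rw [e']
      _ = t := by group

theorem exists_cyc (h : JData z t Q K P B) : ∃ f, Cyc t P B f := by
  obtain ⟨c, hcN, hcB, hct, hall⟩ := h.exists_cycle
  have ht1 : t ≠ 1 := ne_one h.m.ht
  have hq := (Subgroup.mem_normalizer_iff.1 hcN t).1 h.split.tP
  have hq1 : c * t * c⁻¹ ≠ 1 := fun e => ht1 (conj_eq_one_iff.1 e)
  have hc2' : c * (c * t * c⁻¹) * c⁻¹ ≠ t := by
    intro e2
    have := hall (t * (c * t * c⁻¹)) (mul_mem h.split.tP hq) (fun e => hct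
      ((mul_left_cancel (e.trans h.m.t_sq.symm))))
    rw [e2] at this
    rcases this with e3 | e3 | e3
    · exact hq1 (mul_left_cancel (e3.trans (mul_one t).symm))
    · exact ht1 (mul_right_cancel (e3.trans (one_mul _).symm))
    · exact hq1 (mul_left_cancel (e3.trans (mul_one t).symm))
  have h3N : ∀ n : ℕ, c ^ n ∈ Subgroup.normalizer (P : Set G) := fun n => pow_mem hcN n
  have h3B : ∀ n : ℕ, ∀ b ∈ B, c ^ n * b = b * c ^ n := fun n b hb => ((show Commute c b from hcB b hb).pow_left n).eq
  have hfix : c ^ 3 * t * (c ^ 3)⁻¹ = t := by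
    have hm := (Subgroup.mem_normalizer_iff.1 (h3N 3) t).1 h.split.tP
    have e : c ^ 3 * t * (c ^ 3)⁻¹ = c * (c * (c * t * c⁻¹) * c⁻¹) * c⁻¹ := by
      rw [pow_succ, pow_two]; group
    rcases hall _ hm (fun e' => ht1 (conj_eq_one_iff.1 e')) with e' | e' | e'
    · exact e'
    · exfalso
      rw [e] at e'
      exact hc2' (mul_left_cancel (mul_right_cancel e'))
    · exfalso
      rw [e] at e'
      exact hct (mul_left_cancel (mul_right_cancel (mul_left_cancel (mul_right_cancel e'))))
  have hP : c ^ 3 ∈ P :=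
    h.cent_B (Subgroup.mem_centralizer_singleton_iff.2 (mul_inv_eq_iff_eq_mul.1 hfix)) (h3B 3)
  have h6 : c ^ 6 = 1 := by
    rw [show 6 = 3 + 3 from rfl, pow_add, h.split.P_sq _ hP]
  refine ⟨c ^ 4, ?_, h3B 4, fun p hp => (Subgroup.mem_normalizer_iff.1 (h3N 4) p).1 hp, ?_⟩
  · rw [← pow_add, ← pow_add, show 4 + 4 + 4 = 6 * 2 from rfl, pow_mul, h6, one_pow]
  · rw [pow_succ', mul_inv_rev]
    calc c * c ^ 3 * t * ((c ^ 3)⁻¹ * c⁻¹) ≠ t := by
          rw [show c * c ^ 3 * t * ((c ^ 3)⁻¹ * c⁻¹) = c * (c ^ 3 * t * (c ^ 3)⁻¹) * c⁻¹ by group, hfix]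
          exact hct

namespace Frame

variable (hF : Frame Q z v)
include hF

theorem eq_of (L L' : List ℕ) (hL : Low L) (hL' : Low L') (e : m32 L = m32 L') : appProd v L = appProd v L' :=
  (hF.eqv L L' hL hL').2 e

theorem value_comp {L L' : List ℕ} : m32 (L ++ L') = comp 32 (m32 L') (m32 L) := m32_append L L'

theorem mem_elems {g : G} (hg : g * z = z * g) :
    ∃ e ∈ elems, appProd v e.1 = g ∧ e.2 = m32 e.1 ∧ Low e.1 := by
  obtain ⟨e, he, e'⟩ := hF.cover g hg
  exact ⟨e, he, e', (elems_spec he).1.symm, word_facts.2.1 e he⟩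

end Frame

theorem low_append {L L' : List ℕ} (h : Low L) (h' : Low L') : Low (L ++ L') := fun x hx => by
  rcases List.mem_append.1 hx with hx | hx
  exacts [h x hx, h' x hx]

theorem low_wconj {g L : List ℕ} (hg : Low g) (hL : Low L) : Low (wconj g L) := by
  have : Low (winv g) := fun x hx => by
    obtain ⟨y, hy, rfl⟩ := List.mem_map.1 hx
    have h4 : ∀ y < 4, iv y < 4 := by decide
    exact h4 y (hg y (List.mem_reverse.1 hy))
  exact low_append (low_append this hL) hg

/-- The frame is adapted to `f`. -/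
theorem exists_frame_f (h : JData z t Q K P B) : ∃ (v : ℕ → G) (f : G), Frame Q z v ∧ Cyc t P B f ∧
    appProd v fW = f := by
  classical
  obtain ⟨v, hF⟩ := exists_frame' (Cent.of_hj h.m.hj)
  obtain ⟨f, hf⟩ := exists_cyc h
  set C := Subgroup.centralizer ({z} : Set G)
  set f₀ := appProd v fW with hf₀
  have hfC : f ∈ C := Subgroup.mem_centralizer_singleton_iff.2 (hf.comm z h.split.zB)
  have hf0C : f₀ ∈ C := Subgroup.mem_centralizer_singleton_iff.2
    (show Commute f₀ z from by
      have : f₀ ∈ C := ev_mem fun x _ => Subgroup.mem_centralizer_singleton_iff.2 (hF.cent x)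
      exact Subgroup.mem_centralizer_singleton_iff.1 this)
  have hf03 : f₀ * f₀ * f₀ = 1 := by
    have := hF.eq_of (fW ++ fW ++ fW) [] (by decide) (by decide) model_words.2.2.2.2.2.2.2.2.2.2.2.2.2.1
    simpa [appProd_append, appProd, mul_assoc] using this
  have hf01 : f₀ ≠ 1 := fun e =>
    model_words.2.2.2.2.2.2.2.2.2.2.2.2.2.2.1 ((hF.eqv fW [] (by decide) (by decide)).1 (by simpa [appProd] using e))
  haveI : Fact (Nat.Prime 3) := ⟨by norm_num⟩
  have ho : ∀ {g : G}, g * g * g = 1 → g ≠ 1 → orderOf g = 3 := fun {g} h3 h1 =>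
    orderOf_eq_prime (by rw [pow_succ, pow_two, h3]) h1
  have hS : ∀ {g : G} (hg : g ∈ C), g * g * g = 1 → g ≠ 1 →
      Nat.card (Subgroup.zpowers (⟨g, hg⟩ : C)) = 3 ^ (Nat.card C).factorization 3 := fun {g} hg h3 h1 => by
    rw [Nat.card_zpowers, ← Subgroup.orderOf_coe, ho h3 h1, h.m.hj.card_C]
    norm_num [show (1920 : ℕ).factorization 3 = 1 by
      rw [show (1920 : ℕ) = 3 ^ 1 * 640 from rfl, Nat.factorization_mul (by norm_num) (by norm_num),
        Nat.Prime.factorization_pow Nat.prime_three, Finsupp.add_apply, Finsupp.single_eq_same,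
        Nat.factorization_eq_zero_of_not_dvd (by norm_num)]]
  obtain ⟨g, hg⟩ := MulAction.exists_smul_eq C (Sylow.ofCard _ (hS hf0C hf03 hf01)) (Sylow.ofCard _ (hS hfC hf.f3 hf.ne))
  have hmem : (g : C) * ⟨f₀, hf0C⟩ * g⁻¹ ∈ Subgroup.zpowers (⟨f, hfC⟩ : C) := by
    have : (Sylow.ofCard _ (hS hfC hf.f3 hf.ne) : Subgroup C) = Subgroup.zpowers (⟨f, hfC⟩ : C) := rfl
    rw [← this, ← hg]
    exact ⟨⟨f₀, hf0C⟩, Subgroup.mem_zpowers (⟨f₀, hf0C⟩ : C), rfl⟩
  obtain ⟨n, hn⟩ := hmem
  have hn' : f ^ n = (g : G) * f₀ * (g : G)⁻¹ := by simpa using congrArg Subtype.val hn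
  have hF' := hF.conj (g := (g : G)) (Subgroup.mem_centralizer_singleton_iff.1 g.2) fun q hq => h.m.hj.norm g.2 hq
  refine ⟨_, f ^ n, hF', ?_, by rw [ev_conjAll, hn']⟩
  have h3 : f ^ (3 : ℤ) = 1 := by
    rw [show (3 : ℤ) = ((3 : ℕ) : ℤ) from rfl, zpow_natCast, pow_succ, pow_two, hf.f3]
  have hmod : f ^ n = f ^ (n % 3) := by
    conv_lhs => rw [← Int.emod_add_mul_ediv n 3, zpow_add, zpow_mul, h3, one_zpow, mul_one]
  have : n % 3 = 0 ∨ n % 3 = 1 ∨ n % 3 = 2 := by omega
  rcases this with e | e | e <;> rw [hmod, e]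
  · exfalso
    apply hf01
    have : f ^ n = 1 := by rw [hmod, e, zpow_zero]
    rw [hn', conj_eq_one_iff] at this
    exact this
  · rw [zpow_one]; exact hf
  · have : f ^ (2 : ℤ) = f⁻¹ := by
      rw [show (2 : ℤ) = 3 - 1 by norm_num, zpow_sub, h3, one_mul, zpow_one]
    rw [this]; exact hf.inv

/-- The frame also has `u` in `B`. -/
theorem exists_frame_u (h : JData z t Q K P B) : ∃ (v : ℕ → G) (f : G), Frame Q z v ∧ Cyc t P B f ∧
    appProd v fW = f ∧ appProd v [3] ∈ B := by
  classical
  obtain ⟨v, f, hF, hf, hfv⟩ := exists_frame_f h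
  obtain ⟨eB⟩ := h.altB
  have hzo : orderOf (⟨z, h.split.zB⟩ : B) = 2 := by rw [← Subgroup.orderOf_coe]; exact h.m.hj.hz
  obtain ⟨hcard, hsq⟩ := alt5_involution eB hzo
  obtain ⟨w, hwc, hw1, hwz⟩ : ∃ w : B, w ∈ Subgroup.centralizer ({(⟨z, h.split.zB⟩ : B)} : Set B) ∧
      w ≠ 1 ∧ w ≠ ⟨z, h.split.zB⟩ := by
    by_contra hne
    push Not at hne
    set S := Subgroup.centralizer ({(⟨z, h.split.zB⟩ : B)} : Set B)
    have : (S : Set B) ⊆ {1, ⟨z, h.split.zB⟩} := fun w hw => by
      by_cases h1 : w = 1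
      · exact Or.inl h1
      · exact Or.inr (hne w hw h1)
    have h2 := Set.ncard_le_ncard this
    rw [← Nat.card_coe_set_eq] at h2
    have h4 : ({1, ⟨z, h.split.zB⟩} : Set B).ncard ≤ 2 := (Set.ncard_insert_le _ _).trans (by simp)
    have : Nat.card S = 4 := hcard
    change Nat.card S ≤ _ at h2
    omega
  have hwzc : (w : G) * z = z * (w : G) := congrArg Subtype.val (Subgroup.mem_centralizer_singleton_iff.1 hwc)
  have hww : (w : G) * w = 1 := congrArg Subtype.val (hsq w (Subtype.ext hwzc.symm))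
  obtain ⟨e, he, e', ev, hlow⟩ := hF.mem_elems hwzc
  have hcond : condW e.2 = true := by
    simp only [condW, Bool.and_eq_true, beq_iff_eq, Bool.not_eq_true', beq_eq_false_iff_ne]
    rw [ev, ← const_ok.2.1, ← const_ok.2.2.1]
    refine ⟨⟨⟨?_, ?_⟩, ?_⟩, ?_⟩
    · rw [← m32_append]
      exact ((hF.eqv _ [] (low_append hlow hlow) (by decide)).1 (by rw [appProd_append, e']; exact hww))
    · rw [← m32_append, ← m32_append]
      refine (hF.eqv _ _ (low_append word_facts.2.2.2.2.2.1 hlow) (low_append hlow word_facts.2.2.2.2.2.1)).1 ?_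
      rw [appProd_append, appProd_append, e', hfv]
      exact (hf.comm _ w.2).symm
    · intro e0
      exact hw1 (Subtype.ext (by rw [← e', (hF.eqv e.1 [] hlow (by decide)).2 e0]; rfl))
    · intro e0
      exact hwz (Subtype.ext (by rw [← e', (hF.eqv e.1 zW hlow (by decide)).2 e0, hF.hz]))
  have hs := List.all_eq_true.1 search_W e he
  rw [hcond, Bool.not_true, Bool.false_or, List.contains_iff_mem] at hs
  rw [ev] at hs
  have hz' : (z : G) ∈ B := h.split.zB
  simp only [List.mem_cons, List.not_mem_nil, or_false] at hs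
  have hwB : (w : G) ∈ B := w.2
  have cases : appProd v [3] ∈ B ∨ appProd v sW ∈ B := by
    rcases hs with e0 | e0 | e0 | e0 <;>
      have e1 := (hF.eqv e.1 _ hlow (by decide)).2 e0 <;> rw [e'] at e1
    · exact Or.inl (e1 ▸ hwB)
    · rw [appProd_append, hF.hz] at e1
      have := mul_mem hwB hz'
      rw [e1, mul_assoc, h.m.hj.setting.extra.z_sq, mul_one] at this
      exact Or.inl this
    · exact Or.inr (e1 ▸ hwB)
    · rw [appProd_append, hF.hz] at e1
      have := mul_mem hwB hz'
      rw [e1, mul_assoc, h.m.hj.setting.extra.z_sq, mul_one] at this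
      exact Or.inr this
  rcases cases with hu | hs'
  · exact ⟨v, f, hF, hf, hfv, hu⟩
  · set g := appProd v swapW
    have hgz : g * z = z * g := Subgroup.mem_centralizer_singleton_iff.1
      (ev_mem (S := Subgroup.centralizer ({z} : Set G)) fun x _ => Subgroup.mem_centralizer_singleton_iff.2 (hF.cent x))
    have hF' := hF.conj hgz fun q hq => h.m.hj.norm (Subgroup.mem_centralizer_singleton_iff.2 hgz) hq
    have hconj : ∀ L, appProd (fun x => g * v x * g⁻¹) L = appProd v (wconj swapW L) := fun L => by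
      rw [ev_conjAll, ev_wconj hF.inv]
    refine ⟨_, f⁻¹, hF', hf.inv, ?_, ?_⟩
    · rw [hconj, hF.eq_of _ (fW ++ fW) (by decide) (by decide) model_words.2.2.2.2.2.2.2.2.2.2.2.1,
        appProd_append, hfv]
      exact (inv_eq_of_mul_eq_one_right (by rw [← mul_assoc, hf.f3])).symm
    · rw [hconj]
      rcases model_words.2.2.2.2.2.2.2.2.2.2.2.2.1 with e0 | e0
      · rw [hF.eq_of _ sW (by decide) (by decide) e0]; exact hs'
      · rw [hF.eq_of _ (zW ++ sW) (by decide) (by decide) e0, appProd_append, hF.hz]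
        exact mul_mem hs' hz'

/-- The frame has `t` represented in `P`. -/
theorem exists_frame_t (h : JData z t Q K P B) : ∃ (v : ℕ → G) (f : G), Frame Q z v ∧ Cyc t P B f ∧
    appProd v fW = f ∧ appProd v [3] ∈ B ∧ appProd v tW ∈ P := by
  classical
  obtain ⟨v, f, hF, hf, hfv, hu⟩ := exists_frame_u h
  have htP := h.split.tP
  have ht1 : t ≠ 1 := ne_one h.m.ht
  have htt : t * t = 1 := h.m.t_sq
  have htz : t * z = z * t := h.split.comm t htP z h.split.zB
  obtain ⟨e, he, e', ev, hlow⟩ := hF.mem_elems htz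
  have hf2 : f⁻¹ = f * f := inv_eq_of_mul_eq_one_right (by rw [← mul_assoc, hf.f3])
  set q := f * t * f⁻¹ with hq
  set r := f * q * f⁻¹ with hr
  have hqP : q ∈ P := hf.norm t htP
  have hrP : r ∈ P := hf.norm q hqP
  have hrt : r ≠ t := fun e0 => hf.move (by
    have e1 : f * r * f⁻¹ = t := by
      calc f * r * f⁻¹ = (f * f * f) * t * (f * f * f)⁻¹ := by rw [hr, hq]; group
        _ = t := by rw [hf.f3]; group
    rw [e0] at e1
    exact e1)
  have hqr : q ≠ r := fun e0 => hf.move (mul_left_cancel (mul_right_cancel (e0.symm.trans rfl)))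
  have hprod : t * (q * r) = 1 := by
    -- three different involutions of a four-group
    have hq1 : q ≠ 1 := fun e0 => ht1 (conj_eq_one_iff.1 e0)
    have hr1 : r ≠ 1 := fun e0 => hq1 (conj_eq_one_iff.1 e0)
    have htq1 : t * q ≠ 1 := fun e0 => hf.move (mul_left_cancel (e0.trans htt.symm))
    have htqt : t * q ≠ t := fun e0 => hq1 (mul_eq_left.1 e0)
    have htqq : t * q ≠ q := fun e0 => ht1 (mul_eq_right.1 e0)
    by_contra hne
    have htqr : t * q ≠ r := fun e0 => hne (by rw [← mul_assoc, e0, h.split.P_sq r hrP])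
    have htr : t ≠ r := fun e0 => hrt e0.symm
    have hsub : (({1, t, q, r, t * q} : Finset G) : Set G) ⊆ (P : Set G) := by
      intro x hx
      simp only [Finset.coe_insert, Finset.coe_singleton, Set.mem_insert_iff, Set.mem_singleton_iff] at hx
      rcases hx with rfl | rfl | rfl | rfl | rfl
      exacts [one_mem P, htP, hqP, hrP, mul_mem htP hqP]
    have h5 : ({1, t, q, r, t * q} : Finset G).card = 5 := by
      rw [Finset.card_insert_of_notMem, Finset.card_insert_of_notMem, Finset.card_insert_of_notMem,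
        Finset.card_insert_of_notMem, Finset.card_singleton]
      all_goals simp only [Finset.mem_insert, Finset.mem_singleton, not_or]
      · exact htqr.symm
      · exact ⟨hqr, htqq.symm⟩
      · exact ⟨hf.move.symm, htr, htqt.symm⟩
      · exact ⟨ht1.symm, hq1.symm, hr1.symm, htq1.symm⟩
    have := Set.ncard_le_ncard hsub
    rw [Set.ncard_coe_finset, h5, ← Nat.card_coe_set_eq] at this
    have : 5 ≤ Nat.card P := this
    rw [h.split.card_P] at this
    omega
  have hu3 : t * appProd v [3] = appProd v [3] * t := h.split.comm t htP _ hu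
  have hcond : condP e.2 = true := by
    simp only [condP, Bool.and_eq_true, beq_iff_eq, Bool.not_eq_true', beq_eq_false_iff_ne, f2V]
    rw [ev, ← const_ok.1, ← const_ok.2.2.1]
    simp only [← m32_append]
    have hfW : Low fW := word_facts.2.2.2.2.2.1
    refine ⟨⟨⟨?_, ?_⟩, ?_⟩, ?_⟩
    · exact (hF.eqv _ [] (low_append hlow hlow) (by decide)).1 (by rw [appProd_append, e', htt]; rfl)
    · refine (hF.eqv _ _ (low_append (by decide) hlow) (low_append hlow (by decide))).1 ?_
      rw [appProd_append, appProd_append, e', hu3]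
    · intro e0
      have := (hF.eqv e.1 _ hlow (low_append (low_append (low_append hfW hfW) hlow) hfW)).2 e0
      simp only [appProd_append, e', hfv] at this
      exact hf.move (by rw [hf2]; simpa [mul_assoc] using this.symm)
    · refine (hF.eqv _ [] (low_append (low_append (low_append (low_append hfW hlow) (low_append hfW hfW))
        (low_append (low_append (low_append hfW hfW) hlow) hfW)) hlow) (by decide)).1 ?_
      simp only [appProd_append, e', hfv]
      show _ = 1
      rw [← hprod]
      have h4 : f⁻¹ * f⁻¹ = f := by rw [hf2]; calc f * f * (f * f) = f * f * f * f := by group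
                                                _ = f := by rw [hf.f3, one_mul]
      have eq' : q = f * (t * (f * f)) := by rw [hq, hf2, mul_assoc]
      have er : r = f * f * (t * f) := by
        calc r = f * f * t * (f⁻¹ * f⁻¹) := by rw [hr, hq]; group
          _ = f * f * (t * f) := by rw [h4, mul_assoc]
      rw [eq', er]
  have hs := List.all_eq_true.1 search_P e he
  rw [hcond, Bool.not_true, Bool.false_or, Bool.or_eq_true, List.contains_iff_mem, List.contains_iff_mem] at hs
  rcases hs with hs | hs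
  · exfalso
    rw [← values_ok.1, List.mem_map, ev] at hs
    obtain ⟨L, hL, e0⟩ := hs
    exact h.m.not_mem_Q (by
      have := hF.qmem L hL
      rwa [hF.eq_of L e.1 (word_facts.2.2.2.2.2.2.2.2.2.2.2 L hL) hlow e0, e'] at this)
  rw [ev, List.mem_map] at hs
  obtain ⟨L, hL, e0⟩ := hs
  have hlistLow : ∀ L ∈ listP, Low L := by decide +kernel
  have eL := hF.eq_of L e.1 (hlistLow L hL) hlow e0
  rw [e'] at eL
  have hdown : ∀ τ : G, f * τ * f⁻¹ ∈ P → τ ∈ P := fun τ hτ => by
    have := hf.inv.norm _ hτ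
    rwa [show f⁻¹ * (f * τ * f⁻¹) * f⁻¹⁻¹ = τ by group] at this
  have cases : appProd v tW ∈ P ∨ appProd v (wconj sW tW) ∈ P := by
    simp only [listP, List.mem_cons, List.not_mem_nil, or_false] at hL
    rcases hL with rfl | rfl | rfl | rfl | rfl | rfl
    · exact Or.inl (eL ▸ htP)
    · refine Or.inl (hdown _ ?_)
      rw [ev_wconj hF.inv, hfv] at eL
      exact eL ▸ htP
    · refine Or.inl (hdown _ (hdown _ ?_))
      rw [ev_wconj hF.inv, appProd_append, hfv, mul_inv_rev] at eL
      rw [show f * (f * appProd v tW * f⁻¹) * f⁻¹ = f * f * appProd v tW * (f⁻¹ * f⁻¹) by group, eL]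
      exact htP
    all_goals
      have hfs : f * appProd v sW = appProd v sW * f := by
        have := hF.eq_of (fW ++ sW) (sW ++ fW) (by decide) (by decide) model_words.2.2.2.2.2.2.2.2.1
        simp only [appProd_append, hfv] at this
        exact this.symm
      simp only [ev_wconj hF.inv, appProd_append, hfv, mul_inv_rev] at eL ⊢
      refine Or.inr ?_
      first
        | (exact eL ▸ htP)
        | (refine hdown _ ?_
           have key : f * (appProd v sW * appProd v tW * (appProd v sW)⁻¹) * f⁻¹ = t := by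
             rw [← eL, show appProd v sW * (f * appProd v tW * f⁻¹) * (appProd v sW)⁻¹ =
               (appProd v sW * f) * appProd v tW * (appProd v sW * f)⁻¹ by group, ← hfs]
             group
           exact key ▸ htP)
        | (refine hdown _ (hdown _ ?_)
           have key : f * (f * (appProd v sW * appProd v tW * (appProd v sW)⁻¹) * f⁻¹) * f⁻¹ = t := by
             rw [← eL, show appProd v sW * (f * f * appProd v tW * (f⁻¹ * f⁻¹)) * (appProd v sW)⁻¹ =
               (appProd v sW * f * f) * appProd v tW * (appProd v sW * f * f)⁻¹ by group, ← hfs,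
               show f * appProd v sW * f = f * f * appProd v sW by rw [mul_assoc, ← hfs, ← mul_assoc]]
             group
           exact key ▸ htP)
  rcases cases with h0 | h0
  · exact ⟨v, f, hF, hf, hfv, hu, h0⟩
  · set g := appProd v sW
    have hgz : g * z = z * g := Subgroup.mem_centralizer_singleton_iff.1
      (ev_mem (S := Subgroup.centralizer ({z} : Set G)) fun x _ => Subgroup.mem_centralizer_singleton_iff.2 (hF.cent x))
    have hF' := hF.conj hgz fun q hq => h.m.hj.norm (Subgroup.mem_centralizer_singleton_iff.2 hgz) hq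
    have hconj : ∀ L, appProd (fun x => g * v x * g⁻¹) L = appProd v (wconj sW L) := fun L => by
      rw [ev_conjAll, ev_wconj hF.inv]
    have hgf : g * f * g⁻¹ = f := by
      have := hF.eq_of (fW ++ sW) (sW ++ fW) (by decide) (by decide) model_words.2.2.2.2.2.2.2.2.1
      simp only [appProd_append, hfv] at this
      rw [this, mul_inv_cancel_right]
    refine ⟨_, f, hF', hf, by rw [ev_conjAll, hfv, hgf], ?_, by rw [hconj]; exact h0⟩
    rw [hconj, hF.eq_of _ (zW ++ [3]) (by decide) (by decide) model_words.2.2.2.2.2.2.2.2.2.2.1, appProd_append,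
      hF.hz]
    exact mul_mem hu h.split.zB

end CfsgLib.Characterizations.HallJanko.Uniq
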